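import Cfsg.Prelude.Def_Amalgam

set_option autoImplicit false
open Cfsg

namespace Cfsg.Agent.H209

variable {X : Type*} [Group X] {M₁ M₂ : Subgroup X}

theorem cosetGraph_adj_iff (a b : CosetVertex M₁ M₂) :
    (cosetGraph M₁ M₂).Adj a b ↔
      ∃ x : X, (a = Sum.inl (x : X ⧸ M₁) ∧ b = Sum.inr (x : X ⧸ M₂)) ∨
        (a = Sum.inr (x : X ⧸ M₂) ∧ b = Sum.inl (x : X ⧸ M₁)) := by
  unfold cosetGraph
  rw [SimpleGraph.fromRel_adj]
  constructor
  · rintro ⟨_, ⟨x, h1, h2⟩ | ⟨x, h1, h2⟩⟩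
    · exact ⟨x, Or.inl ⟨h1, h2⟩⟩
    · exact ⟨x, Or.inr ⟨h2, h1⟩⟩
  · rintro ⟨x, ⟨h1, h2⟩ | ⟨h1, h2⟩⟩
    · refine ⟨?_, Or.inl ⟨x, h1, h2⟩⟩
      rw [h1, h2]; exact Sum.inl_ne_inr
    · refine ⟨?_, Or.inr ⟨x, h2, h1⟩⟩
      rw [h1, h2]; exact Sum.inr_ne_inl

theorem cosetGraph_adj_mk (x : X) :
    (cosetGraph M₁ M₂).Adj (Sum.inl (x : X ⧸ M₁)) (Sum.inr (x : X ⧸ M₂)) :=
  (cosetGraph_adj_iff _ _).2 ⟨x, Or.inl ⟨rfl, rfl⟩⟩

theorem smul_inl_mk (g x : X) :
    g • (Sum.inl (x : X ⧸ M₁) : CosetVertex M₁ M₂) = Sum.inl ((g * x : X) : X ⧸ M₁) := rfl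

theorem smul_inr_mk (g x : X) :
    g • (Sum.inr (x : X ⧸ M₂) : CosetVertex M₁ M₂) = Sum.inr ((g * x : X) : X ⧸ M₂) := rfl

theorem cosetGraph_adj_smul (g : X) {a b : CosetVertex M₁ M₂} (h : (cosetGraph M₁ M₂).Adj a b) :
    (cosetGraph M₁ M₂).Adj (g • a) (g • b) := by
  rw [cosetGraph_adj_iff] at h ⊢
  obtain ⟨x, ⟨h1, h2⟩ | ⟨h1, h2⟩⟩ := h
  · refine ⟨g * x, Or.inl ⟨?_, ?_⟩⟩
    · rw [h1, smul_inl_mk]
    · rw [h2, smul_inr_mk]
  · refine ⟨g * x, Or.inr ⟨?_, ?_⟩⟩
    · rw [h1, smul_inr_mk]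
    · rw [h2, smul_inl_mk]

theorem cosetGraph_adj_smul_iff (g : X) {a b : CosetVertex M₁ M₂} :
    (cosetGraph M₁ M₂).Adj (g • a) (g • b) ↔ (cosetGraph M₁ M₂).Adj a b := by
  constructor
  · intro h
    have := cosetGraph_adj_smul g⁻¹ h
    simpa using this
  · exact cosetGraph_adj_smul g

/-- The automorphism of the coset graph given by a group element. -/
def smulIso (g : X) : cosetGraph M₁ M₂ ≃g cosetGraph M₁ M₂ where
  toEquiv := MulAction.toPerm g
  map_rel_iff' := by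
    intro a b
    exact cosetGraph_adj_smul_iff g

theorem smulIso_apply (g : X) (a : CosetVertex M₁ M₂) :
    (smulIso g : cosetGraph M₁ M₂ ≃g cosetGraph M₁ M₂) a = g • a := rfl

theorem cosetGraph_reachable_smul (g : X) {a b : CosetVertex M₁ M₂}
    (h : (cosetGraph M₁ M₂).Reachable a b) : (cosetGraph M₁ M₂).Reachable (g • a) (g • b) := by
  have := h.map (smulIso g : cosetGraph M₁ M₂ ≃g cosetGraph M₁ M₂).toHom
  exact this

theorem cosetGraph_dist_smul (g : X) (a b : CosetVertex M₁ M₂) :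
    (cosetGraph M₁ M₂).dist (g • a) (g • b) = (cosetGraph M₁ M₂).dist a b := by
  have key : ∀ (g : X) (a b : CosetVertex M₁ M₂), (cosetGraph M₁ M₂).Reachable a b →
      (cosetGraph M₁ M₂).dist (g • a) (g • b) ≤ (cosetGraph M₁ M₂).dist a b := by
    intro g a b h
    obtain ⟨w, hw⟩ := h.exists_walk_length_eq_dist
    rw [← hw]
    have hle := SimpleGraph.dist_le (w.map (smulIso g : cosetGraph M₁ M₂ ≃g cosetGraph M₁ M₂).toHom)
    rw [SimpleGraph.Walk.length_map] at hle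
    exact hle
  by_cases h : (cosetGraph M₁ M₂).Reachable a b
  · apply le_antisymm (key g a b h)
    have := key g⁻¹ (g • a) (g • b) (cosetGraph_reachable_smul g h)
    simpa using this
  · have h' : ¬ (cosetGraph M₁ M₂).Reachable (g • a) (g • b) := by
      intro h'
      apply h
      have := cosetGraph_reachable_smul g⁻¹ h'
      simpa using this
    rw [SimpleGraph.dist_eq_zero_of_not_reachable h, SimpleGraph.dist_eq_zero_of_not_reachable h']

theorem stabilizer_inl (x : X) :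
    MulAction.stabilizer X (Sum.inl (x : X ⧸ M₁) : CosetVertex M₁ M₂) =
      M₁.map (MulAut.conj x).toMonoidHom := by
  ext g
  rw [MulAction.mem_stabilizer_iff, smul_inl_mk, Sum.inl.injEq, Subgroup.mem_map]
  constructor
  · intro h
    have h2 := QuotientGroup.eq.1 h.symm
    refine ⟨x⁻¹ * g * x, ?_, ?_⟩
    · simpa [mul_assoc] using h2
    · simp [MulAut.conj_apply, mul_assoc]
  · rintro ⟨m, hm, rfl⟩
    symm
    rw [QuotientGroup.eq]
    simpa [MulAut.conj_apply, mul_assoc] using hm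

theorem stabilizer_inr (x : X) :
    MulAction.stabilizer X (Sum.inr (x : X ⧸ M₂) : CosetVertex M₁ M₂) =
      M₂.map (MulAut.conj x).toMonoidHom := by
  ext g
  rw [MulAction.mem_stabilizer_iff, smul_inr_mk, Sum.inr.injEq, Subgroup.mem_map]
  constructor
  · intro h
    have h2 := QuotientGroup.eq.1 h.symm
    refine ⟨x⁻¹ * g * x, ?_, ?_⟩
    · simpa [mul_assoc] using h2
    · simp [MulAut.conj_apply, mul_assoc]
  · rintro ⟨m, hm, rfl⟩
    symm
    rw [QuotientGroup.eq]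
    simpa [MulAut.conj_apply, mul_assoc] using hm

theorem edgeStabilizer_mk (x : X) :
    edgeStabilizer (Sum.inl (x : X ⧸ M₁) : CosetVertex M₁ M₂) (Sum.inr (x : X ⧸ M₂)) =
      (M₁ ⊓ M₂).map (MulAut.conj x).toMonoidHom := by
  unfold edgeStabilizer
  rw [stabilizer_inl, stabilizer_inr, Subgroup.map_inf _ _ _ (MulAut.conj x).injective]

/-- Every vertex is `x M₁` or `x M₂`. -/
theorem vertex_cases (δ : CosetVertex M₁ M₂) :
    (∃ x : X, δ = Sum.inl (x : X ⧸ M₁)) ∨ (∃ x : X, δ = Sum.inr (x : X ⧸ M₂)) := by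
  rcases δ with a | b
  · obtain ⟨x, rfl⟩ := QuotientGroup.mk_surjective a
    exact Or.inl ⟨x, rfl⟩
  · obtain ⟨x, rfl⟩ := QuotientGroup.mk_surjective b
    exact Or.inr ⟨x, rfl⟩

theorem exists_adj (δ : CosetVertex M₁ M₂) : ∃ μ, (cosetGraph M₁ M₂).Adj δ μ := by
  rcases vertex_cases δ with ⟨x, rfl⟩ | ⟨x, rfl⟩
  · exact ⟨_, cosetGraph_adj_mk x⟩
  · exact ⟨_, (cosetGraph_adj_mk x).symm⟩

/-- The set of elements `g` such that `g • a` is reachable from `a`: a subgroup. -/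
theorem cosetGraph_connected (hgen : M₁ ⊔ M₂ = ⊤) : (cosetGraph M₁ M₂).Connected := by
  classical
  have : Nonempty (CosetVertex M₁ M₂) := ⟨Sum.inl ((1 : X) : X ⧸ M₁)⟩
  let base : CosetVertex M₁ M₂ := Sum.inl ((1 : X) : X ⧸ M₁)
  let H : Subgroup X :=
    { carrier := {g | (cosetGraph M₁ M₂).Reachable base (g • base)}
      one_mem' := by
        show (cosetGraph M₁ M₂).Reachable base ((1 : X) • base)
        rw [one_smul]
      mul_mem' := by
        intro a b ha hb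
        show (cosetGraph M₁ M₂).Reachable base ((a * b) • base)
        rw [mul_smul]
        exact SimpleGraph.Reachable.trans ha (cosetGraph_reachable_smul a hb)
      inv_mem' := by
        intro a ha
        show (cosetGraph M₁ M₂).Reachable base (a⁻¹ • base)
        have := cosetGraph_reachable_smul a⁻¹ (show (cosetGraph M₁ M₂).Reachable base (a • base) from ha)
        rw [inv_smul_smul] at this
        exact this.symm }
  have h1 : M₁ ≤ H := by
    intro m hm
    show (cosetGraph M₁ M₂).Reachable base (m • base)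
    have : m • base = base := by
      rw [← MulAction.mem_stabilizer_iff]
      rw [stabilizer_inl (1 : X)]
      exact ⟨m, hm, by simp⟩
    rw [this]
  have h2 : M₂ ≤ H := by
    intro m hm
    show (cosetGraph M₁ M₂).Reachable base (m • base)
    have hadj : (cosetGraph M₁ M₂).Adj base (Sum.inr ((1 : X) : X ⧸ M₂)) := cosetGraph_adj_mk 1
    have hfix : m • (Sum.inr ((1 : X) : X ⧸ M₂) : CosetVertex M₁ M₂) = Sum.inr ((1 : X) : X ⧸ M₂) := by
      rw [← MulAction.mem_stabilizer_iff, stabilizer_inr (1 : X)]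
      exact ⟨m, hm, by simp⟩
    have hadj2 := cosetGraph_adj_smul m hadj
    rw [hfix] at hadj2
    exact hadj.reachable.trans hadj2.reachable.symm
  have htop : H = ⊤ := by
    rw [eq_top_iff, ← hgen]
    exact sup_le h1 h2
  have hall : ∀ g : X, (cosetGraph M₁ M₂).Reachable base (g • base) := by
    intro g
    have : g ∈ H := by rw [htop]; exact Subgroup.mem_top g
    exact this
  have hall' : ∀ δ : CosetVertex M₁ M₂, (cosetGraph M₁ M₂).Reachable base δ := by
    intro δ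
    rcases vertex_cases δ with ⟨x, rfl⟩ | ⟨x, rfl⟩
    · have := hall x
      have e : x • base = Sum.inl (x : X ⧸ M₁) := by
        show x • (Sum.inl ((1 : X) : X ⧸ M₁) : CosetVertex M₁ M₂) = _
        rw [smul_inl_mk, mul_one]
      rwa [e] at this
    · have := hall x
      have e : x • base = Sum.inl (x : X ⧸ M₁) := by
        show x • (Sum.inl ((1 : X) : X ⧸ M₁) : CosetVertex M₁ M₂) = _
        rw [smul_inl_mk, mul_one]
      rw [e] at this
      exact this.trans (cosetGraph_adj_mk x).reachable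
  rw [SimpleGraph.connected_iff]
  exact ⟨fun a b => (hall' a).symm.trans (hall' b), inferInstance⟩

/-- A vertex stabilizer is transitive on the neighbours of its vertex. -/
theorem stabilizer_transitive (δ μ μ' : CosetVertex M₁ M₂) (hμ : (cosetGraph M₁ M₂).Adj δ μ)
    (hμ' : (cosetGraph M₁ M₂).Adj δ μ') : ∃ g ∈ MulAction.stabilizer X δ, g • μ = μ' := by
  rw [cosetGraph_adj_iff] at hμ hμ'
  obtain ⟨x, ⟨h1, h2⟩ | ⟨h1, h2⟩⟩ := hμ
  · obtain ⟨y, ⟨h3, h4⟩ | ⟨h3, h4⟩⟩ := hμ'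
    · refine ⟨y * x⁻¹, ?_, ?_⟩
      · rw [MulAction.mem_stabilizer_iff, h1, smul_inl_mk, inv_mul_cancel_right, ← h3, h1]
      · rw [h2, h4, smul_inr_mk, inv_mul_cancel_right]
    · rw [h1] at h3; exact absurd h3 Sum.inl_ne_inr
  · obtain ⟨y, ⟨h3, h4⟩ | ⟨h3, h4⟩⟩ := hμ'
    · rw [h1] at h3; exact absurd h3 Sum.inr_ne_inl
    · refine ⟨y * x⁻¹, ?_, ?_⟩
      · rw [MulAction.mem_stabilizer_iff, h1, smul_inr_mk, inv_mul_cancel_right, ← h3, h1]
      · rw [h2, h4, smul_inl_mk, inv_mul_cancel_right]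

end Cfsg.Agent.H209
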