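import Cfsg.Agent.H209.TriMain

/-!
# The graph of an amalgam of type (3, 3)
-/

set_option autoImplicit false

namespace Cfsg.Agent.H209

open MulAction

/-- the neighbours of a vertex, in an action of a group `N` inducing `S₃` -/
theorem nbr_data {X V : Type*} [Group X] [MulAction X V] (N : Subgroup X) (φ : N →* Equiv.Perm (Fin 3))
    (hsurj : Function.Surjective φ) (i₀ : Fin 3) (o' : V) (h : ∀ m : N, (m : X) • o' = o' ↔ φ m i₀ = i₀) :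
    ∃ nb : Fin 3 → V, Function.Injective nb ∧ (∀ i, ∃ m ∈ N, nb i = m • o') ∧ (∀ m ∈ N, ∃ i, m • o' = nb i) ∧
      ∀ σ : Equiv.Perm (Fin 3), ∃ m ∈ N, ∀ i, m • nb i = nb (σ i) := by
  have h1 : ∀ i : Fin 3, ∃ m : N, φ m i₀ = i := by
    intro i
    obtain ⟨m, hm⟩ := hsurj (Equiv.swap i₀ i)
    exact ⟨m, by rw [hm, Equiv.swap_apply_left]⟩
  choose f hf using h1
  have key : ∀ m m' : N, φ m i₀ = φ m' i₀ → (m : X) • o' = (m' : X) • o' := by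
    intro m m' hmm
    have : φ (m'⁻¹ * m) i₀ = i₀ := by
      rw [map_mul, map_inv, Equiv.Perm.mul_apply, hmm]
      exact Equiv.symm_apply_apply (φ m') i₀
    have h2 := (h (m'⁻¹ * m)).2 this
    push_cast at h2
    rw [mul_smul, inv_smul_eq_iff] at h2
    exact h2
  have key' : ∀ m m' : N, (m : X) • o' = (m' : X) • o' → φ m i₀ = φ m' i₀ := by
    intro m m' hmm
    have h2 : ((m'⁻¹ * m : N) : X) • o' = o' := by
      push_cast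
      rw [mul_smul, hmm, inv_smul_smul]
    have h3 := (h (m'⁻¹ * m)).1 h2
    rw [map_mul, map_inv, Equiv.Perm.mul_apply, Equiv.Perm.inv_eq_iff_eq] at h3
    exact h3.symm ▸ rfl
  refine ⟨fun i => (f i : X) • o', ?_, fun i => ⟨f i, (f i).2, rfl⟩, ?_, ?_⟩
  · intro i j hij
    have := key' _ _ hij
    rwa [hf, hf] at this
  · intro m hm
    exact ⟨φ ⟨m, hm⟩ i₀, key ⟨m, hm⟩ _ (hf _).symm⟩
  · intro σ
    obtain ⟨m, hm⟩ := hsurj σ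
    refine ⟨m, m.2, fun i => ?_⟩
    have := key (m * f i) (f (σ i)) (by rw [map_mul, Equiv.Perm.mul_apply, hf, hf, hm])
    push_cast at this
    rw [mul_smul] at this
    exact this

/-- the data of an amalgam -/
structure Amal {X : Type*} [Group X] (N₁ N₂ : Subgroup X) (φ₁ : N₁ →* Equiv.Perm (Fin 3))
    (φ₂ : N₂ →* Equiv.Perm (Fin 3)) (i₁ i₂ : Fin 3) : Prop where
  fin₁ : Finite N₁
  fin₂ : Finite N₂
  gen : N₁ ⊔ N₂ = ⊤
  s₁ : Function.Surjective φ₁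
  s₂ : Function.Surjective φ₂
  h₁ : ∀ m : N₁, (m : X) ∈ N₂ ↔ φ₁ m i₁ = i₁
  h₂ : ∀ m : N₂, (m : X) ∈ N₁ ↔ φ₂ m i₂ = i₂
  two : IsPGroup 2 ↥(N₁ ⊓ N₂)
  bot : ∀ K : Subgroup X, K ≤ N₁ ⊓ N₂ → (∀ g ∈ N₁, ∀ k ∈ K, g * k * g⁻¹ ∈ K) → (∀ g ∈ N₂, ∀ k ∈ K, g * k * g⁻¹ ∈ K) →
    ∀ k ∈ K, k = 1

namespace Amal

variable {X : Type*} [Group X] {N₁ N₂ : Subgroup X}

/-- the vertices -/
abbrev Vt (N₁ N₂ : Subgroup X) := (X ⧸ N₁) ⊕ (X ⧸ N₂)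

/-- base vertices -/
def o₁ (N₁ N₂ : Subgroup X) : Vt N₁ N₂ := Sum.inl ((1 : X) : X ⧸ N₁)

def o₂ (N₁ N₂ : Subgroup X) : Vt N₁ N₂ := Sum.inr ((1 : X) : X ⧸ N₂)

theorem smul_o₁ (g : X) : g • o₁ N₁ N₂ = Sum.inl (g : X ⧸ N₁) := by
  unfold o₁
  rw [Sum.smul_inl]
  congr 1
  rw [Quotient.smul_coe, smul_eq_mul, mul_one]

theorem smul_o₂ (g : X) : g • o₂ N₁ N₂ = Sum.inr (g : X ⧸ N₂) := by
  unfold o₂
  rw [Sum.smul_inr]
  congr 1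
  rw [Quotient.smul_coe, smul_eq_mul, mul_one]

theorem fix_o₁ (g : X) : g • o₁ N₁ N₂ = o₁ N₁ N₂ ↔ g ∈ N₁ := by
  rw [smul_o₁]
  unfold o₁
  rw [Sum.inl.injEq, QuotientGroup.eq, mul_one]
  exact inv_mem_iff

theorem fix_o₂ (g : X) : g • o₂ N₁ N₂ = o₂ N₁ N₂ ↔ g ∈ N₂ := by
  rw [smul_o₂]
  unfold o₂
  rw [Sum.inr.injEq, QuotientGroup.eq, mul_one]
  exact inv_mem_iff

theorem cases_vt (v : Vt N₁ N₂) : (∃ g : X, v = g • o₁ N₁ N₂) ∨ ∃ g : X, v = g • o₂ N₁ N₂ := by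
  rcases v with x | y
  · left
    obtain ⟨g, rfl⟩ := QuotientGroup.mk_surjective x
    exact ⟨g, (smul_o₁ g).symm⟩
  · right
    obtain ⟨g, rfl⟩ := QuotientGroup.mk_surjective y
    exact ⟨g, (smul_o₂ g).symm⟩

theorem ne₁₂ (g h : X) : g • o₁ N₁ N₂ ≠ h • o₂ N₁ N₂ := by
  rw [smul_o₁, smul_o₂]
  exact Sum.inl_ne_inr

/-- adjacency -/
def Adj (N₁ N₂ : Subgroup X) (v w : Vt N₁ N₂) : Prop :=
  ∃ g : X, (v = g • o₁ N₁ N₂ ∧ w = g • o₂ N₁ N₂) ∨ (v = g • o₂ N₁ N₂ ∧ w = g • o₁ N₁ N₂)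

theorem adj₁ (g : X) (w : Vt N₁ N₂) : Adj N₁ N₂ (g • o₁ N₁ N₂) w ↔ ∃ m ∈ N₁, w = g • m • o₂ N₁ N₂ := by
  constructor
  · rintro ⟨h, ⟨h1, h2⟩ | ⟨h1, h2⟩⟩
    · refine ⟨g⁻¹ * h, ?_, ?_⟩
      · rw [← fix_o₁ (N₂ := N₂), mul_smul, ← h1, inv_smul_smul]
      · rw [h2, mul_smul, smul_inv_smul]
    · exact absurd h1 (ne₁₂ _ _)
  · rintro ⟨m, hm, rfl⟩
    refine ⟨g * m, Or.inl ⟨?_, by rw [mul_smul]⟩⟩
    rw [mul_smul, (fix_o₁ m).2 hm]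

theorem adj₂ (g : X) (w : Vt N₁ N₂) : Adj N₁ N₂ (g • o₂ N₁ N₂) w ↔ ∃ m ∈ N₂, w = g • m • o₁ N₁ N₂ := by
  constructor
  · rintro ⟨h, ⟨h1, h2⟩ | ⟨h1, h2⟩⟩
    · exact absurd h1.symm (ne₁₂ _ _)
    · refine ⟨g⁻¹ * h, ?_, ?_⟩
      · rw [← fix_o₂ (N₁ := N₁), mul_smul, ← h1, inv_smul_smul]
      · rw [h2, mul_smul, smul_inv_smul]
  · rintro ⟨m, hm, rfl⟩
    refine ⟨g * m, Or.inr ⟨?_, by rw [mul_smul]⟩⟩
    rw [mul_smul, (fix_o₂ m).2 hm]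

variable {φ₁ : N₁ →* Equiv.Perm (Fin 3)} {φ₂ : N₂ →* Equiv.Perm (Fin 3)} {i₁ i₂ : Fin 3}
  (H : Amal N₁ N₂ φ₁ φ₂ i₁ i₂)

include H

theorem nbrs (v : Vt N₁ N₂) : ∃ nb : Fin 3 → Vt N₁ N₂, Function.Injective nb ∧ (∀ w, Adj N₁ N₂ v w ↔ ∃ i, w = nb i) ∧
    ∀ σ : Equiv.Perm (Fin 3), ∃ g : X, g • v = v ∧ ∀ i, g • nb i = nb (σ i) := by
  rcases cases_vt v with ⟨g, rfl⟩ | ⟨g, rfl⟩
  · obtain ⟨nb, hinj, h1, h2, h3⟩ := nbr_data N₁ φ₁ H.s₁ i₁ (o₂ N₁ N₂) (fun m => by rw [fix_o₂]; exact H.h₁ m)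
    refine ⟨fun i => g • nb i, fun i j hij => hinj (MulAction.injective g hij), fun w => ?_, fun σ => ?_⟩
    · rw [adj₁]
      constructor
      · rintro ⟨m, hm, rfl⟩
        obtain ⟨i, hi⟩ := h2 m hm
        exact ⟨i, by rw [hi]⟩
      · rintro ⟨i, rfl⟩
        obtain ⟨m, hm, hi⟩ := h1 i
        exact ⟨m, hm, by show g • nb i = _; rw [hi]⟩
    · obtain ⟨m, hm, hi⟩ := h3 σ
      refine ⟨g * m * g⁻¹, ?_, fun i => ?_⟩
      · rw [mul_smul, mul_smul, inv_smul_smul, (fix_o₁ m).2 hm]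
      · rw [mul_smul, mul_smul, inv_smul_smul, hi]
  · obtain ⟨nb, hinj, h1, h2, h3⟩ := nbr_data N₂ φ₂ H.s₂ i₂ (o₁ N₁ N₂) (fun m => by rw [fix_o₁]; exact H.h₂ m)
    refine ⟨fun i => g • nb i, fun i j hij => hinj (MulAction.injective g hij), fun w => ?_, fun σ => ?_⟩
    · rw [adj₂]
      constructor
      · rintro ⟨m, hm, rfl⟩
        obtain ⟨i, hi⟩ := h2 m hm
        exact ⟨i, by rw [hi]⟩
      · rintro ⟨i, rfl⟩
        obtain ⟨m, hm, hi⟩ := h1 i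
        exact ⟨m, hm, by show g • nb i = _; rw [hi]⟩
    · obtain ⟨m, hm, hi⟩ := h3 σ
      refine ⟨g * m * g⁻¹, ?_, fun i => ?_⟩
      · rw [mul_smul, mul_smul, inv_smul_smul, (fix_o₂ m).2 hm]
      · rw [mul_smul, mul_smul, inv_smul_smul, hi]

theorem connected (S : Set (Vt N₁ N₂)) (hne : S.Nonempty) (hcl : ∀ v ∈ S, ∀ w, Adj N₁ N₂ v w → w ∈ S) :
    ∀ v, v ∈ S := by
  let K : Set X := {g | g • o₁ N₁ N₂ ∈ S ∧ g • o₂ N₁ N₂ ∈ S}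
  have hK : ∀ g, (g • o₁ N₁ N₂ ∈ S ∨ g • o₂ N₁ N₂ ∈ S) → g ∈ K := by
    rintro g (h | h)
    · exact ⟨h, hcl _ h _ ⟨g, Or.inl ⟨rfl, rfl⟩⟩⟩
    · exact ⟨hcl _ h _ ⟨g, Or.inr ⟨rfl, rfl⟩⟩, h⟩
  let L : Subgroup X :=
    { carrier := {x | ∀ g, g ∈ K ↔ g * x ∈ K}
      one_mem' := fun g => by rw [mul_one]
      mul_mem' := by
        intro x y hx hy g
        rw [hx g, hy (g * x), mul_assoc]
      inv_mem' := by
        intro x hx g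
        rw [hx (g * x⁻¹), inv_mul_cancel_right] }
  have hL1 : N₁ ≤ L := by
    intro m hm g
    constructor
    · intro h
      apply hK; left
      rw [mul_smul, (fix_o₁ m).2 hm]; exact h.1
    · intro h
      apply hK; left
      have := h.1
      rwa [mul_smul, (fix_o₁ m).2 hm] at this
  have hL2 : N₂ ≤ L := by
    intro m hm g
    constructor
    · intro h
      apply hK; right
      rw [mul_smul, (fix_o₂ m).2 hm]; exact h.2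
    · intro h
      apply hK; right
      have := h.2
      rwa [mul_smul, (fix_o₂ m).2 hm] at this
  have hL : L = ⊤ := by
    rw [eq_top_iff, ← H.gen]
    exact sup_le hL1 hL2
  have hne' : ∃ g, g ∈ K := by
    obtain ⟨v, hv⟩ := hne
    rcases cases_vt v with ⟨g, rfl⟩ | ⟨g, rfl⟩
    · exact ⟨g, hK g (Or.inl hv)⟩
    · exact ⟨g, hK g (Or.inr hv)⟩
  obtain ⟨g, hg⟩ := hne'
  have hall : ∀ x, x ∈ K := by
    intro x
    have h1 : g⁻¹ * x ∈ L := by rw [hL]; exact Subgroup.mem_top _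
    have h2 := (h1 g).1 hg
    rwa [mul_inv_cancel_left] at h2
  intro v
  rcases cases_vt v with ⟨g, rfl⟩ | ⟨g, rfl⟩
  · exact (hall g).1
  · exact (hall g).2

/-- the graph -/
def tri : Tri X (Vt N₁ N₂) where
  A := Adj N₁ N₂
  ty := fun v => v.isLeft
  symm := by
    rintro v w ⟨g, ⟨h1, h2⟩ | ⟨h1, h2⟩⟩
    · exact ⟨g, Or.inr ⟨h2, h1⟩⟩
    · exact ⟨g, Or.inl ⟨h2, h1⟩⟩
  smul := by
    rintro k v w ⟨g, ⟨h1, h2⟩ | ⟨h1, h2⟩⟩
    · exact ⟨k * g, Or.inl ⟨by rw [h1, mul_smul], by rw [h2, mul_smul]⟩⟩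
    · exact ⟨k * g, Or.inr ⟨by rw [h1, mul_smul], by rw [h2, mul_smul]⟩⟩
  ty_smul := by
    rintro g (x | y) <;> rfl
  ty_adj := by
    rintro v w ⟨g, ⟨rfl, rfl⟩ | ⟨rfl, rfl⟩⟩
    · rw [smul_o₁, smul_o₂]; rfl
    · rw [smul_o₁, smul_o₂]; rfl
  trans := by
    rintro v w v' w' ⟨g, ⟨rfl, rfl⟩ | ⟨rfl, rfl⟩⟩ ⟨g', ⟨rfl, rfl⟩ | ⟨rfl, rfl⟩⟩ hty
    · exact ⟨g' * g⁻¹, by rw [mul_smul, inv_smul_smul], by rw [mul_smul, inv_smul_smul]⟩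
    · exfalso
      rw [smul_o₁, smul_o₂] at hty
      simp at hty
    · exfalso
      rw [smul_o₁, smul_o₂] at hty
      simp at hty
    · exact ⟨g' * g⁻¹, by rw [mul_smul, inv_smul_smul], by rw [mul_smul, inv_smul_smul]⟩
  three := by
    intro v
    obtain ⟨nb, hinj, hA, -⟩ := H.nbrs v
    refine ⟨nb 0, nb 1, nb 2, (hA _).2 ⟨0, rfl⟩, (hA _).2 ⟨1, rfl⟩, (hA _).2 ⟨2, rfl⟩, ?_, ?_, ?_, ?_⟩
    · intro h; exact absurd (hinj h) (by decide)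
    · intro h; exact absurd (hinj h) (by decide)
    · intro h; exact absurd (hinj h) (by decide)
    · intro w hw
      obtain ⟨i, rfl⟩ := (hA w).1 hw
      fin_cases i
      · exact Or.inl rfl
      · exact Or.inr (Or.inl rfl)
      · exact Or.inr (Or.inr rfl)
  swap := by
    intro v a b c ha hb hc hab hac hbc
    obtain ⟨nb, hinj, hA, hσ⟩ := H.nbrs v
    obtain ⟨i, rfl⟩ := (hA a).1 ha
    obtain ⟨j, rfl⟩ := (hA b).1 hb
    obtain ⟨k, rfl⟩ := (hA c).1 hc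
    obtain ⟨g, hg, hg'⟩ := hσ (Equiv.swap j k)
    refine ⟨g, hg, ?_, ?_, ?_⟩
    · rw [hg', Equiv.swap_apply_of_ne_of_ne (fun h => hab (by rw [h])) (fun h => hac (by rw [h]))]
    · rw [hg', Equiv.swap_apply_left]
    · rw [hg', Equiv.swap_apply_right]
  conn := H.connected
  faith := by
    let K : Subgroup X :=
      { carrier := {g | ∀ v : Vt N₁ N₂, g • v = v}
        one_mem' := fun v => one_smul _ v
        mul_mem' := by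
          intro x y hx hy v
          rw [mul_smul, hy v, hx v]
        inv_mem' := by
          intro x hx v
          rw [inv_smul_eq_iff]; exact (hx v).symm }
    have hK : ∀ k ∈ K, k = 1 := by
      apply H.bot K
      · intro k hk
        exact ⟨(fix_o₁ (N₂ := N₂) k).1 (hk _), (fix_o₂ (N₁ := N₁) k).1 (hk _)⟩
      · intro g _ k hk v
        rw [mul_smul, mul_smul, hk (g⁻¹ • v), smul_inv_smul]
      · intro g _ k hk v
        rw [mul_smul, mul_smul, hk (g⁻¹ • v), smul_inv_smul]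
    exact fun g hg => hK g hg
  fin := by
    intro v
    have := H.fin₁
    have := H.fin₂
    rcases cases_vt v with ⟨g, rfl⟩ | ⟨g, rfl⟩
    · refine Finite.of_injective (β := N₁) (fun x => ⟨g⁻¹ * x * g, ?_⟩) ?_
      · rw [← fix_o₁ (N₂ := N₂), mul_smul, mul_smul, inv_smul_eq_iff]
        exact mem_stabilizer_iff.1 x.2
      · intro x y hxy
        have := congrArg Subtype.val hxy
        simp only [mul_left_inj, mul_right_inj] at this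
        exact Subtype.ext this
    · refine Finite.of_injective (β := N₂) (fun x => ⟨g⁻¹ * x * g, ?_⟩) ?_
      · rw [← fix_o₂ (N₁ := N₁), mul_smul, mul_smul, inv_smul_eq_iff]
        exact mem_stabilizer_iff.1 x.2
      · intro x y hxy
        have := congrArg Subtype.val hxy
        simp only [mul_left_inj, mul_right_inj] at this
        exact Subtype.ext this
  two := by
    have key : ∀ (g x : X), x • g • o₁ N₁ N₂ = g • o₁ N₁ N₂ → x • g • o₂ N₁ N₂ = g • o₂ N₁ N₂ →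
        ∃ k : ℕ, x ^ 2 ^ k = 1 := by
      intro g x h1 h2
      have m1 : g⁻¹ * x * g ∈ N₁ := by
        rw [← fix_o₁ (N₂ := N₂), mul_smul, mul_smul, inv_smul_eq_iff]; exact h1
      have m2 : g⁻¹ * x * g ∈ N₂ := by
        rw [← fix_o₂ (N₁ := N₁), mul_smul, mul_smul, inv_smul_eq_iff]; exact h2
      obtain ⟨k, hk⟩ := H.two ⟨g⁻¹ * x * g, ⟨m1, m2⟩⟩
      refine ⟨k, ?_⟩
      have h3 : (g⁻¹ * x * g) ^ 2 ^ k = 1 := congrArg Subtype.val hk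
      have h4 : (g⁻¹ * x * g⁻¹⁻¹) ^ 2 ^ k = g⁻¹ * x ^ 2 ^ k * g⁻¹⁻¹ := conj_pow
      rw [inv_inv] at h4
      rw [h4] at h3
      calc x ^ 2 ^ k = g * (g⁻¹ * x ^ 2 ^ k * g) * g⁻¹ := by group
        _ = 1 := by rw [h3]; group
    rintro v w ⟨g, ⟨rfl, rfl⟩ | ⟨rfl, rfl⟩⟩ x
    · obtain ⟨k, hk⟩ := key g x (mem_stabilizer_iff.1 x.2.1) (mem_stabilizer_iff.1 x.2.2)
      exact ⟨k, Subtype.ext hk⟩
    · obtain ⟨k, hk⟩ := key g x (mem_stabilizer_iff.1 x.2.2) (mem_stabilizer_iff.1 x.2.1)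
      exact ⟨k, Subtype.ext hk⟩

theorem card_le : Nat.card ↥(N₁ ⊓ N₂) ≤ 128 := by
  have h1 := Tri.card_le_128 H.tri (v := o₁ N₁ N₂) (w := o₂ N₁ N₂)
    ⟨1, Or.inl ⟨(one_smul _ _).symm, (one_smul _ _).symm⟩⟩
  have h2 : (Tri.T (o₁ N₁ N₂) (o₂ N₁ N₂) : Subgroup X) = N₁ ⊓ N₂ := by
    ext x
    rw [Tri.mem_T, fix_o₁, fix_o₂]
    rfl
  rwa [h2] at h1

end Amal

end Cfsg.Agent.H209
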