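import Cfsg.Agent.H209.TriCBFive

/-!
# Case B, critical distance five: contradiction
-/

set_option autoImplicit false

namespace Cfsg.Agent.H209

open MulAction

namespace Tri

variable {G V : Type*} [Group G] [MulAction G V] {Γ : Tri G V}
variable {u v w a b c d l m s : V} {g h t x y z : G} {τ : Bool} {n : ℤ} {r : V → G}

namespace CR

theorem eq_five (H : CR Γ τ 5 r) {p : ℤ → V} (hc : BCr Γ τ 5 p 1 5) : False := by
  obtain ⟨hij, h2, h3, h4⟩ := id hc
  -- extend
  have extl : ∀ (p : ℤ → V) (i j : ℤ), i < j → Γ.Arc p i j → ∃ q, Γ.Arc q (i - 1) j ∧ ∀ k ≥ i, q k = p k := by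
    intro p i j hi hp
    obtain ⟨x, hx, hxn⟩ := exists_ne (hp.adj (k := i) le_rfl (by omega))
    obtain ⟨q, hq, -, hqk⟩ := hp.exists_cons hx (fun _ => hxn)
    exact ⟨q, hq, hqk⟩
  have extr : ∀ (p : ℤ → V) (i j : ℤ), i < j → Γ.Arc p i j → ∃ q, Γ.Arc q i (j + 1) ∧ ∀ k ≤ j, q k = p k := by
    intro p i j hi hp
    obtain ⟨x, hx, hxn⟩ := exists_ne (hp.adj' (k := j) (by omega) le_rfl)
    obtain ⟨q, hq, -, hqk⟩ := hp.exists_snoc hx (fun _ => hxn)
    exact ⟨q, hq, hqk⟩
  obtain ⟨q1, hq1, k1⟩ := extl p 1 5 (by omega) h2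
  obtain ⟨q2, hq2, k2⟩ := extl q1 (1 - 1) 5 (by omega) hq1
  obtain ⟨q3, hq3, k3⟩ := extr q2 (1 - 1 - 1) 5 (by omega) hq2
  obtain ⟨q4, hq4, k4⟩ := extr q3 (1 - 1 - 1) (5 + 1) (by omega) hq3
  obtain ⟨q, hq, k5⟩ := extr q4 (1 - 1 - 1) (5 + 1 + 1) (by omega) hq4
  norm_num at hq
  have qk : ∀ k, 1 ≤ k → k ≤ 5 → q k = p k := fun k h1 h2 => by
    rw [k5 k (by omega), k4 k (by omega), k3 k (by omega), k2 k (by omega), k1 k (by omega)]
  have c1 : BCr Γ τ 5 q 1 5 := hc.congr qk (by omega)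
  have c3 : BCr Γ τ 5 q 3 7 := by
    have := H.shift_right (by omega) c1 (hq.sub (by omega) (by omega))
    norm_num at this
    exact this
  have cm : BCr Γ τ 5 q (-1) 3 := by
    have := H.shift_left (by omega) c1 (hq.sub (by omega) (by omega))
    norm_num at this
    exact this
  have A01 : Γ.A (q 0) (q 1) := hq.adj (k := 0) (by omega) (by omega)
  have A21 : Γ.A (q 2) (q 1) := hq.adj' (k := 2) (by omega) (by omega)
  have A32 : Γ.A (q 3) (q 2) := hq.adj' (k := 3) (by omega) (by omega)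
  have A34 : Γ.A (q 3) (q 4) := hq.adj (k := 3) (by omega) (by omega)
  have A54 : Γ.A (q 5) (q 4) := hq.adj' (k := 5) (by omega) (by omega)
  have A56 : Γ.A (q 5) (q 6) := hq.adj (k := 5) (by omega) (by omega)
  have A67 : Γ.A (q 6) (q 7) := hq.adj (k := 6) (by omega) (by omega)
  have A78 : Γ.A (q 7) (q 8) := hq.adj (k := 7) (by omega) (by omega)
  have n24 : q 2 ≠ q 4 := hq.ne (by omega) (by omega) (by ring)
  have n57 : q 5 ≠ q 7 := hq.ne (by omega) (by omega) (by ring)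
  have n35 : q 3 ≠ q 5 := hq.ne (by omega) (by omega) (by ring)
  have n68 : q 6 ≠ q 8 := hq.ne (by omega) (by omega) (by ring)
  have t1 : Γ.ty (q 1) = τ := c1.2.2.1
  have t3 : Γ.ty (q 3) = τ := c3.2.2.1
  have t5 : Γ.ty (q 5) = τ := c1.ty_end H
  have t7 : Γ.ty (q 7) = τ := c3.ty_end H
  have t0 : Γ.ty (q 0) = !τ := CB.ty_nbr' t1 (Γ.symm A01)
  have t6 : Γ.ty (q 6) = !τ := CB.ty_nbr' t5 A56
  obtain ⟨f, hf, hfn⟩ := exists_ne A01
  have tf : Γ.ty f = τ := CB.ty_nbr t0 hf
  obtain ⟨v, hv, hvQ⟩ := Set.not_subset.1 (c3.symm_le H)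
  have hvv : v * v = 1 := H.co.VB_sq t7 hv
  have v3 : v • q 3 = q 3 := H.co.VB_fix_rev (hq.sub (i' := -1) (j' := 7) (by omega) (by omega)) t7 (by omega)
    (by omega) (by omega) hv
  have v4 : v • q 4 = q 4 := H.co.VB_fix_rev (hq.sub (i' := -1) (j' := 7) (by omega) (by omega)) t7 (by omega)
    (by omega) (by omega) hv
  have v5 : v • q 5 = q 5 := H.co.VB_fix_rev (hq.sub (i' := -1) (j' := 7) (by omega) (by omega)) t7 (by omega)
    (by omega) (by omega) hv
  have vne : v • q 2 ≠ q 2 := fun h => hvQ (mem_Q_of_two v3 A32 A34 n24 h v4)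
  -- `v` commutes with `VB (q 5)`
  have hvc : ∀ y ∈ Γ.VB (q 5), v * y = y * v := by
    intro y hy
    apply comm_VB_of _ hy
    intro m hm
    by_cases hm6 : m = q 6
    · rw [hm6]
      exact H.co.VB_le_rev (i := 6) (j := 7) (by omega) (hq.sub (by omega) (by omega)) t7 (by omega) hv
    · obtain ⟨q', hq', hq'm, hq'k⟩ := (hq.sub (i' := 5) (j' := 7) (by omega) (by omega)).exists_cons hm (fun _ => hm6)
      have := H.co.VB_le_rev (p := q') (i := 5 - 1) (j := 7) (by omega) hq' (by rw [hq'k _ (by omega)]; exact t7)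
        (by omega) (x := v) (by rw [hq'k _ (by omega)]; exact hv)
      rwa [hq'm] at this
  -- the folded arc
  have hP := (hq.sub (i' := -1) (j' := 3) le_rfl (by omega)).shift 3
  norm_num at hP
  have hF := hP.fold (v := v) (by norm_num; exact v3) (by norm_num; exact vne)
  have hs := hF.shift (-3)
  norm_num at hs
  set s : ℤ → V := fun k => if k ≤ 3 then q k else v • q (3 + -k + 3) with hsdef
  have sk : ∀ k ≤ 3, s k = q k := by
    intro k hk
    simp only [hsdef]
    rw [if_pos (by omega)]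
  have s5 : s 5 = v • q 1 := by
    simp only [hsdef]
    rw [if_neg (by omega)]; norm_num
  have s6 : s 6 = v • q 0 := by
    simp only [hsdef]
    rw [if_neg (by omega)]; norm_num
  have hs' : Γ.Arc s (-1) 7 := hs
  have d1 : BCr Γ τ 5 s 1 5 := by
    have h5 : BCr Γ τ 5 s (-1) 3 := cm.congr (fun k _ h => sk k h) (by omega)
    have := H.shift_right (by omega) h5 (hs'.sub (by omega) (by omega))
    norm_num at this
    exact this
  have s1 : s 1 = q 1 := sk 1 (by omega)
  have s0 : s 0 = q 0 := sk 0 (by omega)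
  have s3 : s 3 = q 3 := sk 3 (by omega)
  have hvfn : v • f ≠ v • q 1 := fun h => hfn (MulAction.injective v h)
  have hvfA : Γ.A (v • q 0) (v • f) := Γ.smul v hf
  have tvf : Γ.ty (v • f) = τ := by rw [Γ.ty_smul, tf]
  have nv : r (v • f) ∉ Γ.Q (q 1) := by
    have hrev := d1.rev H 6
    norm_num at hrev
    have hsrev := (hs'.sub (i' := 1) (j' := 6) (by omega) (by omega)).rev 6
    norm_num at hsrev
    have := H.r_not_mem (by omega) hrev (by norm_num; exact hsrev) (f := v • f) (by norm_num; rw [s6]; exact hvfA)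
      (by norm_num; rw [s5]; exact hvfn)
    norm_num at this
    rwa [s1] at this
  have mvf : r (v • f) ∈ Γ.VB (s 5) := by
    rw [s5]
    exact H.r_mem_VB (Γ.smul v (Γ.symm A01)) hvfA (by rw [Γ.ty_smul]; exact t1)
  have R1 := H.rel (by omega) d1 (hs'.sub (by omega) (by omega)) (f := f) (by norm_num; rw [s0]; exact hf)
    (by rw [s1]; exact hfn) mvf (by rw [s1]; exact nv)
  norm_num at R1
  rw [s3] at R1
  -- facts on `x1 = r f`
  have hfz : r f ∈ Γ.ZZ (q 0) := H.r_mem_ZZ hf tf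
  have hfV : r f ∈ Γ.VB (q 1) := H.r_mem_VB (Γ.symm A01) hf t1
  have hf3 : r f • q 3 = q 3 := CB.ZZ_fix H.co.hmin (hq.sub (i' := 0) (j' := 8) (by omega) le_rfl) t0 (by omega)
    (by omega) (by omega) hfz
  have hf5 : r f • q 5 = q 5 := CB.ZZ_fix H.co.hmin (hq.sub (i' := 0) (j' := 8) (by omega) le_rfl) t0 (by omega)
    (by omega) (by omega) hfz
  have hconj : v * r f * v⁻¹ = r (v • f) := H.R.conj f v tf
  have hconj' : v * r (v • f) * v⁻¹ = r f := by
    rw [H.R.conj _ v tvf, ← mul_smul, hvv, one_smul]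
  have hvf3 : r (v • f) • q 3 = q 3 := by
    rw [← hconj]; exact conj_fix_of_eq hf3 v3
  have hvf5 : r (v • f) • q 5 = q 5 := by
    rw [← hconj]; exact conj_fix_of_eq hf5 v5
  have i1 : (r f)⁻¹ = r f := H.R.inv tf
  have i2 : (r (v • f))⁻¹ = r (v • f) := H.R.inv tvf
  have hrr : r (q 3) * r (q 3) = 1 := H.R.sq _ t3
  set y := r f * r (v • f) with hy
  -- `y` commutes with `VB (q 5)`
  have hyc : ∀ w ∈ Γ.VB (q 5), y * w = w * y := by
    intro w hw
    have hvw := hvc w hw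
    by_cases hwQ : w ∈ Γ.Q (q 1)
    · have hrev := (hq.sub (i' := 1) (j' := 5) (by omega) (by omega)).rev 6
      norm_num at hrev
      have e1 := H.g4 (fun k => q (6 - k)) 1 5 (by ring) hrev (by norm_num; exact t5) w (by norm_num; exact hw)
        (by norm_num; exact hwQ) (r f) (by norm_num; exact hfV)
      have e2 : w * r (v • f) = r (v • f) * w := by
        rw [← hconj]
        calc w * (v * r f * v⁻¹) = (v * w) * r f * v⁻¹ := by rw [hvw]; group
          _ = v * (w * r f) * v⁻¹ := by group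
          _ = v * (r f * w) * v⁻¹ := by rw [e1]
          _ = v * r f * (w * v⁻¹) := by group
          _ = v * r f * (v⁻¹ * (v * w) * v⁻¹) := by group
          _ = v * r f * (v⁻¹ * (w * v) * v⁻¹) := by rw [hvw]
          _ = v * r f * v⁻¹ * w := by group
      calc y * w = r f * (r (v • f) * w) := by rw [hy]; group
        _ = (r f * w) * r (v • f) := by rw [← e2]; group
        _ = w * y := by rw [← e1, hy]; group
    · have e1 := H.rel (by omega) c1 (hq.sub (by omega) (by omega)) (f := f) (by norm_num; exact hf) hfn hw hwQ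
      norm_num at e1
      have e2 : w * r f * w⁻¹ = r f * r (q 3) := by
        rw [← e1]
        calc w * r f * w⁻¹ = (r f * r f) * (w * r f * w⁻¹) := by rw [H.R.sq f tf, one_mul]
          _ = r f * (r f * (w * r f * w⁻¹)) := by group
      have cv3 : v * r (q 3) = r (q 3) * v := H.R.comm t3 v3
      have e3 : w * r (v • f) * w⁻¹ = r (v • f) * r (q 3) := by
        rw [← hconj]
        calc w * (v * r f * v⁻¹) * w⁻¹ = (w * v) * r f * (w * v)⁻¹ := by group
          _ = (v * w) * r f * (v * w)⁻¹ := by rw [hvw]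
          _ = v * (w * r f * w⁻¹) * v⁻¹ := by group
          _ = v * (r f * r (q 3)) * v⁻¹ := by rw [e2]
          _ = v * r f * v⁻¹ * (v * r (q 3)) * v⁻¹ := by group
          _ = v * r f * v⁻¹ * r (q 3) := by rw [cv3]; group
      have c2 : r (v • f) * r (q 3) = r (q 3) * r (v • f) := H.R.comm t3 hvf3
      have e4 : w * y * w⁻¹ = y := by
        calc w * y * w⁻¹ = (w * r f * w⁻¹) * (w * r (v • f) * w⁻¹) := by rw [hy]; group
          _ = r f * (r (q 3) * r (v • f)) * r (q 3) := by rw [e2, e3]; group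
          _ = r f * r (v • f) * (r (q 3) * r (q 3)) := by rw [← c2]; group
          _ = y := by rw [hrr, mul_one]
      calc y * w = (w * y * w⁻¹) * w := by rw [e4]
        _ = w * y := by group
  have hy5 : y • q 5 = q 5 := mul_fix hf5 hvf5
  have hy7 : y • q 7 = q 7 := ((H.co.mem_Q_of_VB t5 hy5 hyc).2 _ A56).2 _ A67
  -- `r (q 3) ∈ VB (q 7)`
  have hmem : r (q 3) ∈ Γ.VB (q 7) := by
    have e1 : r (v • f) * r f * (r (v • f))⁻¹ = r f * r (q 3) := by
      rw [← R1]
      calc r (v • f) * r f * (r (v • f))⁻¹ = (r f * r f) * (r (v • f) * r f * (r (v • f))⁻¹) := by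
            rw [H.R.sq f tf, one_mul]
        _ = r f * (r f * (r (v • f) * r f * (r (v • f))⁻¹)) := by group
    have c1 : r f * r (q 3) = r (q 3) * r f := H.R.comm t3 hf3
    have e2 : r (q 3) = v * (y * v⁻¹ * y⁻¹) := by
      have e3 : v * y * v⁻¹ = r (v • f) * r f := by
        calc v * y * v⁻¹ = (v * r f * v⁻¹) * (v * r (v • f) * v⁻¹) := by rw [hy]; group
          _ = r (v • f) * r f := by rw [hconj, hconj']
      calc r (q 3) = (r (q 3) * r f) * (r f)⁻¹ := by group
        _ = (r f * r (q 3)) * (r f)⁻¹ := by rw [c1]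
        _ = (r (v • f) * r f * (r (v • f))⁻¹) * (r f)⁻¹ := by rw [e1]
        _ = (r (v • f) * r f) * y⁻¹ := by rw [hy]; group
        _ = (v * y * v⁻¹) * y⁻¹ := by rw [e3]
        _ = v * (y * v⁻¹ * y⁻¹) := by group
    rw [e2]
    exact mul_mem hv (conj_mem_VB_of_eq (inv_mem hv) hy7)
  -- `r (q 3) ∈ ZZ (q 6)`
  obtain ⟨u, hu, huQ⟩ := Set.not_subset.1 c3.2.2.2
  have u6 : u • q 6 = q 6 := H.co.VB_fix (hq.sub (i' := 3) (j' := 8) (by omega) le_rfl) t3 (by omega) (by omega)
    (by omega) hu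
  have u7 : u • q 7 = q 7 := H.co.VB_fix (hq.sub (i' := 3) (j' := 8) (by omega) le_rfl) t3 (by omega) (by omega)
    (by omega) hu
  have u8 : u • q 8 ≠ q 8 := fun h => huQ (mem_Q_of_two u7 (Γ.symm A67) A78 n68 u6 h)
  have u86 : u • q 8 ≠ q 6 := by
    intro h
    rw [← u6] at h
    exact n68 (MulAction.injective u h).symm
  obtain ⟨f1, hf1, hf1n⟩ := exists_ne (Γ.symm A78)
  have tf1 : Γ.ty f1 = τ := by rw [← t7]; exact ty_eq_of_adj hf1 (Γ.symm A78)
  have huf1 : Γ.A (u • q 8) (u • f1) := Γ.smul u hf1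
  have huf1n : u • f1 ≠ q 7 := by
    intro h
    rw [← u7] at h
    exact hf1n (MulAction.injective u h)
  have hrev := c3.rev H 10
  norm_num at hrev
  have hqrev := (hq.sub (i' := 3) (j' := 8) (by omega) (by omega)).rev 10
  norm_num at hqrev
  have n1 : r f1 ∉ Γ.Q (q 3) := by
    have := H.r_not_mem (by omega) hrev (by norm_num; exact hqrev) (f := f1) (by norm_num; exact hf1)
      (by norm_num; exact hf1n)
    norm_num at this
    exact this
  have hu3 : u • q 3 = q 3 := (H.co.cb.VB_le_Q t3 hu).1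
  have n2 : r (u • f1) ∉ Γ.Q (q 3) := by
    intro h
    rw [← H.R.conj f1 u tf1] at h
    have h1 := conj_mem_Q_of_fix h (inv_fix hu3)
    have e : u⁻¹ * (u * r f1 * u⁻¹) * u⁻¹⁻¹ = r f1 := by group
    rw [e] at h1
    exact n1 h1
  have R2 := H.rel (by omega) hrev (by norm_num; exact hqrev) (f := f1) (by norm_num; exact hf1)
    (by norm_num; exact hf1n) (v := u) (by norm_num; exact hu) (by norm_num; exact huQ)
  norm_num at R2
  rw [H.R.conj f1 u tf1] at R2
  have r3Q : r (q 3) ∈ Γ.Q (q 3) := H.R.mem_Q_self t3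
  have hZ6 : Γ.ZZ (q 6) ≤ Γ.Q (q 3) := CB.ZZ_le_rev H.co.hmin (p := q) (i := 3) (j := 6) (by omega)
    (hq.sub (by omega) (by omega)) t6 (by omega)
  have hmem6 : r (q 3) ∈ Γ.ZZ (q 6) := by
    obtain ⟨a, ha, b, hb, c, hc, e⟩ := H.co.VB_decomp t7 (Γ.symm A67) A78 (A_of_fix u7 A78) n68 u86.symm u8.symm hf1
      huf1 hf1n huf1n hmem
    rcases (H.hr f1 tf1).2 b hb with rfl | rfl <;>
      rcases (H.hr (u • f1) (by rw [Γ.ty_smul]; exact tf1)).2 c hc with rfl | rfl
    · rw [mul_one, mul_one] at e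
      rw [e]; exact ha
    · exfalso
      rw [mul_one] at e
      rw [e] at r3Q
      exact n2 ((mul_mem_cancel_left (hZ6 ha)).1 r3Q)
    · exfalso
      rw [mul_one] at e
      rw [e] at r3Q
      exact n1 ((mul_mem_cancel_left (hZ6 ha)).1 r3Q)
    · rw [mul_assoc, R2] at e
      rw [e]
      exact mul_mem ha (H.r_mem_ZZ (Γ.symm A56) t5)
  have Z37 : r (q 3) ≠ r (q 7) := H.co.cb.Z4 H.R (i := 3) (j := 7) (by ring) (hq.sub (by omega) (by omega)) t3
  obtain ⟨b5, hb5, b7, hb7, e⟩ := H.co.cb.ZZ_decomp t6 (Γ.symm A56) A67 n57 hmem6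
  rcases (H.hr _ t5).2 b5 hb5 with rfl | rfl <;> rcases (H.hr _ t7).2 b7 hb7 with rfl | rfl
  · rw [mul_one] at e
    exact H.R.ne _ t3 e
  · rw [one_mul] at e
    exact Z37 e
  · rw [mul_one] at e
    exact n35 (H.R.inj (Γ.symm A34) (Γ.symm A54) t3 e)
  · obtain ⟨g, hg, hg5, hg7, -⟩ := exists_third (Γ.symm A56) A67 n57
    rw [H.R.mul (q 6) (q 5) (q 7) g (Γ.symm A56) A67 hg n57 hg5.symm hg7.symm t5] at e
    obtain ⟨s', hs', hs'g, hs'k⟩ := (hq.sub (i' := 3) (j' := 6) (by omega) (by omega)).exists_snoc hg (fun _ => by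
      norm_num; exact hg5)
    have := H.co.cb.Z4 H.R (i := 3) (j := 7) (by ring) hs' (by rw [hs'k 3 (by omega)]; exact t3)
    rw [hs'k 3 (by omega)] at this
    apply this
    rw [e]
    congr 1
    norm_num at hs'g
    exact hs'g.symm

end CR

end Tri

end Cfsg.Agent.H209
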