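import Cfsg.Agent.H209.TriThreeB

/-!
# The bound 128 for the edge stabilizers
-/

set_option autoImplicit false

namespace Cfsg.Agent.H209

open MulAction

namespace Tri

variable {G V : Type*} [Group G] [MulAction G V]

theorem card_le_of_CB {Γ : Tri G V} {τ : Bool} {v w : V} (H : CB Γ τ) (hvw : Γ.A v w) :
    Nat.card (T v w : Subgroup G) ≤ 128 := by
  obtain ⟨v₀, hv₀⟩ : ∃ p, Γ.ty p = !τ := by
    by_cases h : Γ.ty v = !τ
    · exact ⟨v, h⟩
    · refine ⟨w, ?_⟩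
      rw [Γ.ty_adj hvw]
      cases hv : Γ.ty v <;> cases τ <;> simp_all
  obtain ⟨a₀, ha₀⟩ := ex_adj Γ v₀
  obtain ⟨n, hn0, ⟨p, hp, hty, hc⟩, hmin⟩ := exists_min (Γ := Γ) (fun v => Γ.ZZ v) (fun b => b = !τ) v₀ hv₀ (by
    obtain ⟨x, hx, hx1⟩ := H.ZB_ne (CB.ty_nbr hv₀ ha₀)
    exact ⟨x, H.ZB_le_ZZ (CB.ty_nbr hv₀ ha₀) ha₀ hx, hx1⟩)
  have hn2 : 2 ≤ n := by
    by_contra hcon
    have : n = 0 ∨ n = 1 := by omega
    rcases this with rfl | rfl
    · exact hc H.np.ZZ_le_Q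
    · exact hc (H.ZZ_le_Q_nbr hty (hp.adj (k := 0) le_rfl (by omega)))
  by_cases hev : n % 2 = 0
  · have := H.even_card hmin hn2 hev hp hty hc hvw
    omega
  have HO : CO Γ τ n := ⟨H, hmin, by omega, by omega⟩
  have hdich := HO.main_dichotomy hp hty hc
  have hG4 : G4 Γ τ n := by
    rcases hdich with ⟨j, -, hj, hFx⟩ | hM
    · exact HO.G4_of_Fx hj hFx
    · exact HO.G4_of_Mv hM
  obtain ⟨r, R, hr⟩ := HO.exists_r hG4 hp hty hc
  have HR : CR Γ τ n r := ⟨HO, R, hr, hG4, hdich⟩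
  have h01 : Γ.A (p 0) (p 1) := hp.adj (k := 0) le_rfl (by omega)
  have hB : BCr Γ τ n p 1 n := ⟨by ring, hp.sub (by omega) le_rfl, CB.ty_nbr hty h01, fun hle =>
    hc ((ZZ_le_VB (Γ.symm h01)).trans hle)⟩
  by_cases h7 : 7 ≤ n
  · exact absurd (HR.ge_seven h7 hB) id
  by_cases h5 : n = 5
  · subst h5
    exact absurd (HR.eq_five hB) id
  have h3 : n = 3 := by
    clear HR hr R hG4 hdich HO hmin hc hB
    omega
  subst h3
  exact C3.card_le ⟨HR, p, hp, hty, hc⟩ hvw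

/-- **The bound.** -/
theorem card_le_128 (Γ : Tri G V) {v w : V} (hvw : Γ.A v w) : Nat.card (T v w : Subgroup G) ≤ 128 := by
  rcases card_le_or_NP hvw with h | hNP
  · omega
  have hcen : ∀ v v', Γ.ty v = Γ.ty v' →
      (∀ a, Γ.A v a → ∀ z ∈ OZ (T v a : Subgroup G), ∀ g : G, g • v = v → g * z = z * g) →
      (∀ a, Γ.A v' a → ∀ z ∈ OZ (T v' a : Subgroup G), ∀ g : G, g • v' = v' → g * z = z * g) := by
    intro v v' hty h a ha z hz g hg
    obtain ⟨b, hb⟩ := ex_adj Γ v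
    obtain ⟨k, hk, hkb⟩ := Γ.trans hb ha hty
    have h1 : k⁻¹ * z * k⁻¹⁻¹ ∈ OZ (T v b : Subgroup G) := by
      have := conj_mem_OZ_T hz k⁻¹
      rwa [← hk, ← hkb, inv_smul_smul, inv_smul_smul] at this
    have h2 : (k⁻¹ * g * k) • v = v := by
      rw [mul_smul, mul_smul, hk, hg, ← hk, inv_smul_smul]
    have h3 := h b hb _ h1 _ h2
    calc g * z = k * ((k⁻¹ * g * k) * (k⁻¹ * z * k⁻¹⁻¹)) * k⁻¹ := by group
      _ = k * ((k⁻¹ * z * k⁻¹⁻¹) * (k⁻¹ * g * k)) * k⁻¹ := by rw [h3]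
      _ = z * g := by group
  by_cases hall : ∀ v, ¬ (∀ a, Γ.A v a → ∀ z ∈ OZ (T v a : Subgroup G), ∀ g : G, g • v = v → g * z = z * g)
  · have := CA.card_le ⟨hNP, hall⟩ hvw
    omega
  push Not at hall
  obtain ⟨v₁, hv₁⟩ := hall
  by_cases hall' : ∃ v₂, Γ.ty v₂ = !(Γ.ty v₁) ∧
      (∀ a, Γ.A v₂ a → ∀ z ∈ OZ (T v₂ a : Subgroup G), ∀ g : G, g • v₂ = v₂ → g * z = z * g)
  · -- both types central: the edge stabilizer is trivial
    exfalso
    obtain ⟨v₂, hv₂, hc₂⟩ := hall'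
    obtain ⟨a, ha⟩ := ex_adj Γ v₁
    obtain ⟨t, ht, htQ⟩ := exists_T_not_mem_Q ha
    obtain ⟨z, hz, hz1⟩ := exists_OZ (finT Γ v₁ a) (isPGroup_T ha) ⟨t, ht, fun h => htQ (by rw [h]; exact one_mem _)⟩
    have hca := hcen v₂ a (by rw [hv₂, Γ.ty_adj ha]) hc₂ v₁ (Γ.symm ha) z (by rw [T_comm]; exact hz)
    have hcv := hv₁ a ha z hz
    obtain ⟨hz1', hz2'⟩ := mem_T.1 hz.1
    apply hz1
    apply arc_bot_elt Γ z (p := fun k => if k = 0 then v₁ else a) (i := 0) (j := 1) (by omega)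
    · refine ⟨fun k h1 h2 => ?_, fun k h1 h2 => by omega⟩
      have : k = 0 := by omega
      subst this
      simpa using ha
    · intro k h1 h2
      have : k = 0 ∨ k = 1 := by omega
      rcases this with rfl | rfl
      · simpa using hz1'
      · simpa using hz2'
    · intro x hx
      have hx' : Γ.A v₁ x := by simpa using hx
      obtain ⟨g, hg, hgx⟩ := exists_trans ha hx'
      exact ⟨g, hcv g hg, 1, by omega, le_rfl, by simpa using hgx⟩
    · intro x hx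
      have hx' : Γ.A a x := by simpa using hx
      obtain ⟨g, hg, hgx⟩ := exists_trans (Γ.symm ha) hx'
      exact ⟨g, hca g hg, 0, le_rfl, by omega, by simpa using hgx⟩
    · intro k h1 h2; omega
  push Not at hall'
  refine card_le_of_CB (τ := Γ.ty v₁) ⟨hNP, fun p a hp ha z hz g hg => hcen v₁ p hp.symm hv₁ a ha z hz g hg, ?_⟩ hvw
  intro l hl hcon
  obtain ⟨a, ha, z, hz, g, hg, hne⟩ := hall' l hl
  exact hne (hcon a ha z hz g hg)

end Tri

end Cfsg.Agent.H209
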