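import Cfsg.Agent.H209.TriThree

/-!
# Case B, critical distance three: the bound 128
-/

set_option autoImplicit false

namespace Cfsg.Agent.H209

open MulAction

namespace Tri

variable {G V : Type*} [Group G] [MulAction G V] {Γ : Tri G V}
variable {u v w a b c d e m s : V} {g h t x y z : G} {τ : Bool} {r : V → G}

namespace C3

variable (H : C3 Γ τ r)

include H

theorem e8 {p l0 l1 l2 q0 q1 q2 : V} (h0 : Γ.A p l0) (h1 : Γ.A p l1) (h2 : Γ.A p l2) (n01 : l0 ≠ l1) (n02 : l0 ≠ l2)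
    (n12 : l1 ≠ l2) (k0 : Γ.A l0 q0) (k1 : Γ.A l1 q1) (k2 : Γ.A l2 q2) (m0 : q0 ≠ p) (m1 : q1 ≠ p) (m2 : q2 ≠ p)
    (hty : Γ.ty p = τ) : r q0 * r q1 = r q2 ∨ r q0 * r q1 = r q2 * r p := by
  obtain ⟨v, hv, hvQ⟩ := H.exists_v3 h2 k2 m2.symm hty
  obtain ⟨a1, a2, a3, a4, a5⟩ := H.moved h0 h2 k2 n02 hty hv hvQ
  have e1 : v • l0 = l1 := third_unique h0 h2 a5 h1 n02 a3 a4 n01.symm n12
  have R1 := H.rel3 h0 k0 h2 k2 n02 m0 m2.symm hty hv hvQ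
  have t0 := ty2 h0 k0 hty
  rw [H.cr.R.conj q0 v t0] at R1
  have A1 : Γ.A l1 (v • q0) := by
    have := Γ.smul v k0
    rwa [e1] at this
  have N1 : v • q0 ≠ p := by
    intro h
    rw [← a1] at h
    exact m0 (MulAction.injective v h)
  have c2 : r p * r q2 = r q2 * r p := H.cr.R.comm_nbr (Γ.symm h2) k2 hty
  rcases H.cr.R.branch (Γ.symm h1) A1 k1 N1 m1 hty with h | h
  · right; rw [h, R1, c2]
  · left
    rw [h, ← mul_assoc, R1, c2, mul_assoc, H.cr.R.sq p hty, mul_one]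

theorem VB_mem {p l0 l1 q : V} (h0 : Γ.A p l0) (h1 : Γ.A p l1) (n01 : l0 ≠ l1) (k1 : Γ.A l1 q) (m1 : q ≠ p)
    (hty : Γ.ty p = τ) (hx : x ∈ Γ.VB p) : ∃ a ∈ Γ.ZZ l0, x = a ∨ x = a * r q := by
  obtain ⟨l2, h2, n20, n21, -⟩ := exists_third h0 h1 n01
  obtain ⟨q2, k2, m2⟩ := exists_ne (Γ.symm h2)
  obtain ⟨q0, k0, m0⟩ := exists_ne (Γ.symm h0)
  have t0 := ty2 h0 k0 hty
  have t1 := ty2 h1 k1 hty
  have t2 := ty2 h2 k2 hty
  obtain ⟨a, ha, b, hb, c, hc, rfl⟩ := H.cr.co.VB_decomp hty h0 h1 h2 n01 n20.symm n21.symm k1 k2 m1 m2 hx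
  have r0 : r q0 ∈ Γ.ZZ l0 := H.cr.r_mem_ZZ k0 t0
  have rp : r p ∈ Γ.ZZ l0 := H.cr.r_mem_ZZ (Γ.symm h0) hty
  have r1 : r q ∈ Γ.VB p := H.cr.r_mem_VB h1 k1 hty
  -- `r q2 = a' * r q`
  have hex : ∃ a' ∈ Γ.ZZ l0, r q2 = a' * r q := by
    rcases H.e8 h0 h1 h2 n01 n20.symm n21.symm k0 k1 k2 m0 m1 m2 hty with h | h
    · exact ⟨r q0, r0, h.symm⟩
    · refine ⟨r q0 * r p, mul_mem r0 rp, ?_⟩
      have c1 : r p * r q = r q * r p := H.cr.R.comm_nbr (Γ.symm h1) k1 hty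
      rw [mul_assoc, c1, ← mul_assoc, h, mul_assoc, H.cr.R.sq p hty, mul_one]
  obtain ⟨a', ha', e'⟩ := hex
  have ca' : r q * a' = a' * r q := H.cr.co.VB_comm hty r1 (ZZ_le_VB h0 ha')
  rcases (H.cr.hr q t1).2 b hb with rfl | rfl <;> rcases (H.cr.hr q2 t2).2 c hc with rfl | rfl
  · exact ⟨a, ha, Or.inl (by group)⟩
  · exact ⟨a * a', mul_mem ha ha', Or.inr (by rw [e']; group)⟩
  · exact ⟨a, ha, Or.inr (by group)⟩
  · refine ⟨a * a', mul_mem ha ha', Or.inl ?_⟩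
    calc a * r q * r q2 = a * (r q * a') * r q := by rw [e']; group
      _ = a * a' * (r q * r q) := by rw [ca']; group
      _ = a * a' := by rw [H.cr.R.sq q t1, mul_one]

theorem D3_bot {p1 p2 p3 p4 p5 : V} (h1 : Γ.A p1 p2) (h2 : Γ.A p2 p3) (h3 : Γ.A p3 p4) (h4 : Γ.A p4 p5)
    (n1 : p1 ≠ p3) (n2 : p2 ≠ p4) (n3 : p3 ≠ p5) (hty : Γ.ty p1 = τ) (hx : x ∈ Γ.D3 p1) (hx5 : x ∈ Γ.Q p5) :
    x = 1 := by
  have t3 := ty2 h1 h2 hty
  have t5 := ty2 h3 h4 t3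
  have hx3 : x ∈ Γ.Q p3 := hx.2 _ _ h1 h2
  have hxm := (H.cr.co.mem_Q_of_VB t3 hx3.1 (fun y hy => H.D3_comm h1 h2 n1 hty hx hy)).2
  obtain ⟨p3', h3', n31, n33, -⟩ := exists_third (Γ.symm h1) h2 n1
  have t3' := ty2 h1 h3' hty
  obtain ⟨v1, hv1, hv1Q⟩ := H.exists_v3 (Γ.symm h2) (Γ.symm h1) n1.symm t3
  obtain ⟨v3, hv3, hv3Q⟩ := H.exists_v3 (Γ.symm h2) h3' n33.symm t3
  obtain ⟨a1, a2, a3, a4, a5⟩ := H.moved h3 (Γ.symm h2) (Γ.symm h1) n2.symm t3 hv1 hv1Q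
  obtain ⟨b1, b2, b3, b4, b5⟩ := H.moved h3 (Γ.symm h2) h3' n2.symm t3 hv3 hv3Q
  have eq4 : v3 • p4 = v1 • p4 := third_unique h3 (Γ.symm h2) b5 a5 n2.symm b3 b4 a3 a4
  -- `u = v1⁻¹ * v3`
  have u4 : (v1⁻¹ * v3) • p4 = p4 := by rw [mul_smul, eq4, inv_smul_smul]
  have u3 : (v1⁻¹ * v3) • p3 = p3 := mul_fix (inv_fix a1) b1
  have cx1 : x * v1 = v1 * x := comm_VB_of (fun m hm => hx.1.2 m hm) hv1
  have cx3 : x * v3 = v3 * x := H.D3_comm h1 h3' n31.symm hty hx hv3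
  have v1' : v1⁻¹ ∉ Γ.Q p3 := fun h => hv1Q (inv_mem_iff.1 h)
  have R3 := H.rel3 h3 h4 (Γ.symm h2) h3' n2.symm n3.symm n33.symm t3 hv3 hv3Q
  have R1 := H.rel3 h3 h4 (Γ.symm h2) (Γ.symm h1) n2.symm n3.symm n1.symm t3 (inv_mem hv1) v1'
  have f13 : v1⁻¹ • p3 = p3 := inv_fix a1
  have f13' : v1⁻¹ • p3' = p3' := inv_fix (H.VB_fix2 h1 h3' hty hv1).2
  have R1' : v1⁻¹ * r p5 * v1⁻¹⁻¹ = r p5 * (r p3 * r p1) := by
    rw [← R1]
    calc v1⁻¹ * r p5 * v1⁻¹⁻¹ = (r p5 * r p5) * (v1⁻¹ * r p5 * v1⁻¹⁻¹) := by rw [H.cr.R.sq p5 t5, one_mul]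
      _ = _ := by group
  have R3' : v3 * r p5 * v3⁻¹ = r p5 * (r p3 * r p3') := by
    rw [← R3]
    calc v3 * r p5 * v3⁻¹ = (r p5 * r p5) * (v3 * r p5 * v3⁻¹) := by rw [H.cr.R.sq p5 t5, one_mul]
      _ = _ := by group
  have c3 : v1⁻¹ * r p3 = r p3 * v1⁻¹ := H.cr.R.comm t3 f13
  have c3' : v1⁻¹ * r p3' = r p3' * v1⁻¹ := H.cr.R.comm t3' f13'
  have m13 : r p1 * r p3' = r p3 := H.cr.R.mul p2 p1 p3' p3 (Γ.symm h1) h3' h2 n31.symm n1 n33 hty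
  have c13 : r p1 * r p3 = r p3 * r p1 := H.cr.R.comm_nbr (Γ.symm h1) h2 hty
  have hu5 : (v1⁻¹ * v3) * r p5 * (v1⁻¹ * v3)⁻¹ = r p5 * r p3 := by
    calc (v1⁻¹ * v3) * r p5 * (v1⁻¹ * v3)⁻¹ = v1⁻¹ * (v3 * r p5 * v3⁻¹) * v1⁻¹⁻¹ := by group
      _ = v1⁻¹ * (r p5 * (r p3 * r p3')) * v1⁻¹⁻¹ := by rw [R3']
      _ = (v1⁻¹ * r p5 * v1⁻¹⁻¹) * (v1⁻¹ * r p3) * r p3' * v1⁻¹⁻¹ := by group
      _ = (v1⁻¹ * r p5 * v1⁻¹⁻¹) * r p3 * (v1⁻¹ * r p3') * v1⁻¹⁻¹ := by rw [c3]; group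
      _ = (r p5 * (r p3 * r p1)) * r p3 * r p3' := by rw [c3', R1']; group
      _ = r p5 * r p3 * (r p1 * r p3) * r p3' := by group
      _ = r p5 * (r p3 * r p3) * (r p1 * r p3') := by rw [c13]; group
      _ = r p5 * r p3 := by rw [H.cr.R.sq p3 t3, m13, mul_one]
  have u5 : (v1⁻¹ * v3) • p5 ≠ p5 := by
    intro h
    rw [H.cr.R.conj p5 _ t5, h] at hu5
    exact H.cr.R.ne p3 t3 (left_eq_mul.1 hu5)
  have u53 : (v1⁻¹ * v3) • p5 ≠ p3 := by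
    intro h
    rw [← u3] at h
    exact n3.symm (MulAction.injective _ h)
  have cxu : (v1⁻¹ * v3) * x * (v1⁻¹ * v3)⁻¹ = x := by
    calc (v1⁻¹ * v3) * x * (v1⁻¹ * v3)⁻¹ = v1⁻¹ * (v3 * x) * v3⁻¹ * v1 := by group
      _ = v1⁻¹ * (x * v1) := by rw [← cx3]; group
      _ = x := by rw [cx1]; group
  have key4 : ∀ q, Γ.A p4 q → x ∈ Γ.Q q := by
    intro q hq
    by_cases hq3 : q = p3
    · rw [hq3]; exact hx3
    by_cases hq5 : q = p5
    · rw [hq5]; exact hx5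
    have e1 : (v1⁻¹ * v3) • p5 = q := third_unique (Γ.symm h3) h4 (A_of_fix u4 h4) hq n3 u53 u5 hq3 hq5
    have := conj_mem_Q_of_eq hx5 e1
    rwa [cxu] at this
  apply H.D3_inf h1 h2 n1 hty hx
  refine ⟨⟨hx3, hxm⟩, fun l q hl hq => ?_⟩
  by_cases hl2 : l = p2
  · rw [hl2] at hq; exact hx.2 _ _ h1 hq
  by_cases hl4 : l = p4
  · rw [hl4] at hq; exact key4 q hq
  have e1 : v1 • p4 = l := third_unique h3 (Γ.symm h2) a5 hl n2.symm a3 a4 hl4 hl2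
  have e2 : Γ.A p4 (v1⁻¹ • q) := by
    have := Γ.smul v1⁻¹ hq
    rwa [← e1, inv_smul_smul] at this
  have h5 := conj_mem_Q_of_eq (h := v1) (w := q) (key4 _ e2) (smul_inv_smul _ _)
  have e3 : v1 * x * v1⁻¹ = x := by rw [← cx1]; group
  rwa [e3] at h5

theorem D3_eq {p : V} (hty : Γ.ty p = τ) (hx : x ∈ Γ.D3 p) : x = 1 ∨ x = r p := by
  obtain ⟨p2, h1⟩ := ex_adj Γ p
  obtain ⟨p3, h2, n1⟩ := exists_ne (Γ.symm h1)
  obtain ⟨p4, h3, n2⟩ := exists_ne (Γ.symm h2)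
  obtain ⟨p5, h4, n3⟩ := exists_ne (Γ.symm h3)
  have t3 := ty2 h1 h2 hty
  have key : ∀ y ∈ Γ.D3 p, y ∈ (T p5 p4 : Subgroup G) := by
    intro y hy
    have hy3 : y ∈ Γ.Q p3 := hy.2 _ _ h1 h2
    have := (H.cr.co.mem_Q_of_VB t3 hy3.1 (fun z hz => H.D3_comm h1 h2 n1.symm hty hy hz)).2 p4 h3
    exact Q_le_T' h4 this
  by_cases hx5 : x ∈ Γ.Q p5
  · left; exact H.D3_bot h1 h2 h3 h4 n1.symm n2.symm n3.symm hty hx hx5
  · right
    have hr := H.r_mem_D3 hty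
    have hr5 : r p ∉ Γ.Q p5 := H.far h1 h2 h3 h4 n1.symm n2.symm n3.symm hty
    have h5 := mul_mem_Q (Γ.symm h4) (key _ hr) (key _ hx) hr5 hx5
    have h6 := H.D3_bot h1 h2 h3 h4 n1.symm n2.symm n3.symm hty (mul_mem hr hx) h5
    rw [← H.cr.R.inv hty]
    exact (inv_eq_of_mul_eq_one_right h6).symm

/-- Step 2 -/
theorem step2 {p1 p2 p3 p3' : V} (h1 : Γ.A p2 p1) (h3 : Γ.A p2 p3) (h3' : Γ.A p2 p3') (n13 : p1 ≠ p3)
    (n13' : p1 ≠ p3') (n33 : p3 ≠ p3') (hty : Γ.ty p1 = τ) (hx1 : x ∈ Γ.D p1) (hx3 : x ∈ Γ.D p3)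
    (hx3' : x ∈ Γ.Q p3') : x ∈ Γ.ZZ p2 := by
  have h12 := Γ.symm h1
  have t3 := ty2 h12 h3 hty
  have t3' := ty2 h12 h3' hty
  obtain ⟨p0, s0, h0, hs0, n02, ns2, n0s, hall⟩ := exists_others h12
  obtain ⟨w, hw, hwQ⟩ := H.exists_v3 h12 h3 n13 hty
  obtain ⟨w1, w2, w3, w4, w5⟩ := H.moved h0 h12 h3 n02 hty hw hwQ
  have ws : w • p0 = s0 := third_unique h0 h12 w5 hs0 n02 w3 w4 n0s.symm ns2
  have cxw : w * x * w⁻¹ = x := by
    have := comm_VB_of (fun m hm => hx3.2 m hm) hw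
    rw [← this]; group
  have hwc : ∀ m, x ∈ Γ.Q m ↔ x ∈ Γ.Q (w • m) := by
    intro m
    constructor
    · intro h
      have := conj_mem_Q h w
      rwa [cxw] at this
    · intro h
      rw [mem_Q_smul] at h
      have e : w⁻¹ * x * w = x := by
        calc w⁻¹ * x * w = w⁻¹ * (w * x * w⁻¹) * w := by rw [cxw]
          _ = x := by group
      rwa [e] at h
  have claim1 : ∀ m m', Γ.A p0 m → Γ.A p0 m' → m ≠ p1 → m' ≠ p1 → x ∈ Γ.Q m → x ∈ Γ.Q m' := by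
    intro m m' hm hm' nm nm' hxm
    by_contra hxm'
    have tm := ty2 h0 hm hty
    obtain ⟨v, hv, hvQ⟩ := H.exists_v3 h0 hm nm.symm hty
    obtain ⟨v1, v2, v3, v4, v5⟩ := H.moved h12 h0 hm n02.symm hty hv hvQ
    have vs : v • p2 = s0 := third_unique h12 h0 v5 hs0 n02.symm v3 v4 ns2 n0s.symm
    obtain ⟨c, hc, e⟩ := H.cr.co.VB_act tm hxm (inv_mem hv)
    have e1 : v * x * v⁻¹ = c * x := by
      calc v * x * v⁻¹ = v * (x * v⁻¹ * x⁻¹) * x := by group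
        _ = v * (v⁻¹ * c) * x := by rw [e]
        _ = c * x := by group
    have A3 : Γ.A s0 (v • p3) := by
      have := Γ.smul v h3
      rwa [vs] at this
    have A3' : Γ.A s0 (v • p3') := by
      have := Γ.smul v h3'
      rwa [vs] at this
    have N3 : p1 ≠ v • p3 := by
      intro h; rw [← v1] at h; exact n13 (MulAction.injective v h)
    have N3' : p1 ≠ v • p3' := by
      intro h; rw [← v1] at h; exact n13' (MulAction.injective v h)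
    have N33 : v • p3 ≠ v • p3' := fun h => n33 (MulAction.injective v h)
    have k3 : c * x ∈ Γ.Q (v • p3) := by rw [← e1]; exact conj_mem_Q hx3.1 v
    have k3' : c * x ∈ Γ.Q (v • p3') := by rw [← e1]; exact conj_mem_Q hx3' v
    have B : ∀ q, Γ.A p0 q → q ≠ p1 → w • q = v • p3 ∨ w • q = v • p3' := by
      intro q hq nq
      have A4 : Γ.A s0 (w • q) := by
        have := Γ.smul w hq
        rwa [ws] at this
      rcases eq_or (Γ.symm hs0) A3 A3' A4 N3 N3' N33 with h | h | h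
      · exfalso; rw [← w1] at h; exact nq (MulAction.injective w h)
      · exact Or.inl h
      · exact Or.inr h
    have x1 : x ∈ Γ.Q (w • m) := (hwc m).1 hxm
    have x2 : x ∉ Γ.Q (w • m') := fun h => hxm' ((hwc m').2 h)
    rcases (H.cr.hr m tm).2 c hc with h | h
    · rw [h, one_mul] at k3 k3'
      rcases B m' hm' nm' with h' | h'
      · rw [h'] at x2; exact x2 k3
      · rw [h'] at x2; exact x2 k3'
    · rw [h] at k3 k3'
      have f3 : r m ∉ Γ.Q (v • p3) := H.far (Γ.symm hm) (Γ.symm h0) hs0 A3 nm n0s N3 tm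
      have f3' : r m ∉ Γ.Q (v • p3') := H.far (Γ.symm hm) (Γ.symm h0) hs0 A3' nm n0s N3' tm
      rcases B m hm nm with h' | h'
      · rw [h'] at x1; exact f3 ((mul_mem_cancel_right x1).1 k3)
      · rw [h'] at x1; exact f3' ((mul_mem_cancel_right x1).1 k3')
  obtain ⟨m, hm, nm⟩ := exists_ne (Γ.symm h0)
  have rp1 : r p1 ∈ Γ.ZZ p2 := H.cr.r_mem_ZZ h1 hty
  have rp3 : r p3 ∈ Γ.ZZ p2 := H.cr.r_mem_ZZ h3 t3
  by_cases hxm : x ∈ Γ.Q m
  · have hD : x ∈ Γ.D3 p1 := by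
      refine ⟨hx1, fun l q hl hq => ?_⟩
      by_cases hq1 : q = p1
      · rw [hq1]; exact hx1.1
      rcases hall l hl with rfl | rfl | rfl
      · rcases eq_or h1 h3 h3' hq n13 n13' n33 with rfl | rfl | rfl
        · exact hx1.1
        · exact hx3.1
        · exact hx3'
      · exact claim1 m q hm hq nm hq1 hxm
      · have e2 : Γ.A p0 (w⁻¹ • q) := by
          have := Γ.smul w⁻¹ hq
          rwa [← ws, inv_smul_smul] at this
        have e3 : w⁻¹ • q ≠ p1 := by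
          intro h
          rw [← inv_fix w1] at h
          exact hq1 (MulAction.injective _ h)
        have := (hwc _).1 (claim1 m _ hm e2 nm e3 hxm)
        rwa [smul_inv_smul] at this
    rcases H.D3_eq hty hD with h | h
    · rw [h]; exact one_mem _
    · rw [h]; exact rp1
  · have hnot : ∀ q, Γ.A p0 q → q ≠ p1 → x ∉ Γ.Q q := fun q hq nq h => hxm (claim1 q m hq hm nq nm h)
    have rD : r p3 ∈ Γ.D p1 := H.VB_le_D hty (ZZ_le_VB h12 rp3)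
    have rQ3' : r p3 ∈ Γ.Q p3' := H.cr.co.cb.ZZ_le_Q_nbr (CB.ty_nbr' hty h12) h3' rp3
    have hD : x * r p3 ∈ Γ.D3 p1 := by
      refine ⟨mul_mem hx1 rD, fun l q hl hq => ?_⟩
      by_cases hq1 : q = p1
      · rw [hq1]; exact mul_mem hx1.1 rD.1
      have haux : l ≠ p2 → x ∉ Γ.Q q → x * r p3 ∈ Γ.Q q := by
        intro hl2 hxq
        have f : r p3 ∉ Γ.Q q := H.far (Γ.symm h3) h1 hl hq n13.symm (Ne.symm hl2) (Ne.symm hq1) t3
        exact mul_mem_Q (Γ.symm hq) (Q_le_T' hq (hx1.2 l hl)) (Q_le_T' hq (rD.2 l hl)) hxq f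
      rcases hall l hl with rfl | rfl | rfl
      · rcases eq_or h1 h3 h3' hq n13 n13' n33 with rfl | rfl | rfl
        · exact mul_mem hx1.1 rD.1
        · exact mul_mem hx3.1 (H.cr.R.mem_Q_self t3)
        · exact mul_mem hx3' rQ3'
      · exact haux n02 (hnot q hq hq1)
      · apply haux ns2
        have e2 : Γ.A p0 (w⁻¹ • q) := by
          have := Γ.smul w⁻¹ hq
          rwa [← ws, inv_smul_smul] at this
        have e3 : w⁻¹ • q ≠ p1 := by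
          intro h
          rw [← inv_fix w1] at h
          exact hq1 (MulAction.injective _ h)
        intro h
        apply hnot _ e2 e3
        rw [hwc, smul_inv_smul]; exact h
    have e4 : x = (x * r p3) * (r p3)⁻¹ := by group
    rw [e4]
    refine mul_mem ?_ (inv_mem rp3)
    rcases H.D3_eq hty hD with h | h
    · rw [h]; exact one_mem _
    · rw [h]; exact rp1

/-- Step 1 -/
theorem step1 {p1 p2 p3 p3' : V} (h1 : Γ.A p2 p1) (h3 : Γ.A p2 p3) (h3' : Γ.A p2 p3') (n13 : p1 ≠ p3)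
    (n13' : p1 ≠ p3') (n33 : p3 ≠ p3') (hty : Γ.ty p1 = τ) (hx1 : x ∈ Γ.D p1) (hx3 : x ∈ Γ.D p3) :
    x ∈ Γ.Q p3' := by
  by_contra hxQ
  have h12 := Γ.symm h1
  have t3 := ty2 h12 h3 hty
  have t3' := ty2 h12 h3' hty
  have t2 := CB.ty_nbr' hty h12
  obtain ⟨g, g2, g3', g1, g3⟩ := Γ.swap h3' h1 h3 n13'.symm n33.symm n13
  have hx2 : x ∈ Γ.Q p2 := hx1.2 p2 h12
  -- the second element
  have hw1 : g * x * g⁻¹ ∈ Γ.D p1 := conj_mem_D_of_eq hx3 g3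
  have hw3 : g * x * g⁻¹ ∈ Γ.D p3 := conj_mem_D_of_eq hx1 g1
  have hwQ : g * x * g⁻¹ ∉ Γ.Q p3' := by
    intro h
    have := conj_mem_Q_of_fix h (inv_fix g3')
    have e : g⁻¹ * (g * x * g⁻¹) * g⁻¹⁻¹ = x := by group
    rw [e] at this
    exact hxQ this
  have hprod : g * x * g⁻¹ * x ∈ Γ.Q p3' :=
    mul_mem_Q (Γ.symm h3') (Q_le_T' h3' (hw1.2 p2 h12)) (Q_le_T' h3' hx2) hwQ hxQ
  have hZ : g * x * g⁻¹ * x ∈ Γ.ZZ p2 :=
    H.step2 h1 h3 h3' n13 n13' n33 hty (mul_mem hw1 hx1) (mul_mem hw3 hx3) hprod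
  obtain ⟨l', l'', hl', hl'', nl', nl'', nll, -⟩ := exists_others (Γ.symm h3')
  obtain ⟨q, hq, nq⟩ := exists_ne (Γ.symm hl')
  have tq := ty2 hl' hq t3'
  have sx := swap_of_not_mem (hx2.2 _ h3') (Γ.symm h3') hl' hl'' nl'.symm nl''.symm nll hx2.1 hxQ
  have x3' : x • p3' = p3' := hx2.2 _ h3'
  have Axq : Γ.A l'' (x • q) := by
    have := Γ.smul x hq
    rwa [sx.1] at this
  have Nxq : x • q ≠ p3' := by
    intro h
    rw [← x3'] at h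
    exact nq (MulAction.injective x h)
  have m13 : r p1 * r p3' = r p3 := H.cr.R.mul p2 p1 p3' p3 h1 h3' h3 n13' n13 n33.symm hty
  have rp1 : r p1 ∈ Γ.ZZ p2 := H.cr.r_mem_ZZ h1 hty
  have rp3 : r p3 ∈ Γ.ZZ p2 := H.cr.r_mem_ZZ h3 t3
  -- the element `e`
  have hex : ∃ e ∈ Γ.ZZ p2, (e = r p1 ∨ e = r p3) ∧ x * r q * x⁻¹ = r q * e := by
    rw [H.cr.R.conj q x tq]
    rcases H.e8 hl' hl'' (Γ.symm h3') nll nl' nl'' hq Axq h1 nq Nxq n13' t3' with h | h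
    · refine ⟨r p1, rp1, Or.inl rfl, ?_⟩
      rw [← h, ← mul_assoc, H.cr.R.sq q tq, one_mul]
    · refine ⟨r p3, rp3, Or.inr rfl, ?_⟩
      rw [← m13, ← h, ← mul_assoc, H.cr.R.sq q tq, one_mul]
  obtain ⟨e, heZ, he, hxe⟩ := hex
  have hqV : r q ∈ Γ.VB p3' := H.cr.r_mem_VB hl' hq t3'
  have hW : ∀ v' ∈ Γ.VB p3', v' ∉ Γ.ZZ p2 → x * v' * x⁻¹ = v' * e := by
    intro v' hv' hv'Z
    obtain ⟨a, ha, h | h⟩ := H.VB_mem (Γ.symm h3') hl' nl'.symm hq nq t3' hv'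
    · exact absurd (by rw [h]; exact ha) hv'Z
    · have c1 : a * x = x * a := ZZ_comm ha hx2
      rw [h]
      calc x * (a * r q) * x⁻¹ = (x * a) * r q * x⁻¹ := by group
        _ = a * (x * r q * x⁻¹) := by rw [← c1]; group
        _ = a * r q * e := by rw [hxe]; group
  have hqZ : r q ∉ Γ.ZZ p2 := by
    intro h
    exact H.far (Γ.symm hq) (Γ.symm hl') (Γ.symm h3') h1 nq nl' n13'.symm tq
      (H.cr.co.cb.ZZ_le_Q_nbr t2 h1 h)
  -- the second element acts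
  have hW2 : (g * x * g⁻¹) * (r q * e) * (g * x * g⁻¹)⁻¹ = r q * e * (g * e * g⁻¹) := by
    have k1 : r q * e ∈ Γ.VB p3' := mul_mem hqV (ZZ_le_VB (Γ.symm h3') heZ)
    have k2 : g⁻¹ * (r q * e) * g⁻¹⁻¹ ∈ Γ.VB p3' := conj_mem_VB_of_eq k1 (inv_fix g3')
    have k3 : g⁻¹ * (r q * e) * g⁻¹⁻¹ ∉ Γ.ZZ p2 := by
      intro h
      have := conj_mem_ZZ_of_eq h g2
      have e' : g * (g⁻¹ * (r q * e) * g⁻¹⁻¹) * g⁻¹ = r q * e := by group
      rw [e'] at this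
      exact hqZ ((mul_mem_cancel_right heZ).1 this)
    have k4 := hW _ k2 k3
    calc (g * x * g⁻¹) * (r q * e) * (g * x * g⁻¹)⁻¹
        = g * (x * (g⁻¹ * (r q * e) * g⁻¹⁻¹) * x⁻¹) * g⁻¹ := by group
      _ = g * ((g⁻¹ * (r q * e) * g⁻¹⁻¹) * e) * g⁻¹ := by rw [k4]
      _ = r q * e * (g * e * g⁻¹) := by group
  have hfin : r q = r q * e * (g * e * g⁻¹) := by
    have c1 : (g * x * g⁻¹ * x) * r q = r q * (g * x * g⁻¹ * x) :=
      H.cr.co.ZZ_VB_comm t3' (Γ.symm h3') hZ hqV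
    calc r q = (r q * (g * x * g⁻¹ * x)) * (g * x * g⁻¹ * x)⁻¹ := by group
      _ = ((g * x * g⁻¹ * x) * r q) * (g * x * g⁻¹ * x)⁻¹ := by rw [c1]
      _ = (g * x * g⁻¹) * (x * r q * x⁻¹) * (g * x * g⁻¹)⁻¹ := by group
      _ = (g * x * g⁻¹) * (r q * e) * (g * x * g⁻¹)⁻¹ := by rw [hxe]
      _ = r q * e * (g * e * g⁻¹) := hW2
  have h6 : e * (g * e * g⁻¹) = 1 := by
    rw [mul_assoc] at hfin
    exact left_eq_mul.1 hfin
  have c31 : r p3 * r p1 = r p1 * r p3 := H.cr.R.comm_nbr h3 h1 t3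
  have h7 : r p1 * r p3 = 1 := by
    rcases he with rfl | rfl
    · rwa [H.cr.R.conj p1 g hty, g1] at h6
    · rw [H.cr.R.conj p3 g t3, g3, c31] at h6
      exact h6
  have m2 : r p1 * r p3 = r p3' := H.cr.R.mul p2 p1 p3 p3' h1 h3 h3' n13 n13' n33 hty
  rw [m2] at h7
  exact H.cr.R.ne p3' t3' h7

theorem D_of_two {p l m : V} (hty : Γ.ty p = τ) (hl : Γ.A p l) (hm : Γ.A p m) (hlm : l ≠ m) (hxp : x ∈ Γ.Q p)
    (hxl : x ∈ Γ.Q l) (hxm : x ∈ Γ.Q m) : x ∈ Γ.D p := by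
  refine ⟨hxp, fun n hn => ?_⟩
  by_cases hnl : n = l
  · rw [hnl]; exact hxl
  by_cases hnm : n = m
  · rw [hnm]; exact hxm
  obtain ⟨ql, hql, nql⟩ := exists_ne (Γ.symm hl)
  obtain ⟨qm, hqm, nqm⟩ := exists_ne (Γ.symm hm)
  obtain ⟨qn, hqn, nqn⟩ := exists_ne (Γ.symm hn)
  have tl := ty2 hl hql hty
  have tm := ty2 hm hqm hty
  have tn := ty2 hn hqn hty
  have c0 : r p * x = x * r p := (H.cr.R.comm hty hxp.1).symm
  have c1 : r ql * x = x * r ql := ZZ_comm (H.cr.r_mem_ZZ hql tl) hxl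
  have c2 : r qm * x = x * r qm := ZZ_comm (H.cr.r_mem_ZZ hqm tm) hxm
  have c12 : (r ql * r qm) * x = x * (r ql * r qm) := by rw [mul_assoc, c2, ← mul_assoc, c1, mul_assoc]
  have c3 : r qn * x = x * r qn := by
    rcases H.e8 hl hm hn hlm (Ne.symm hnl) (Ne.symm hnm) hql hqm hqn nql nqm nqn hty with h | h
    · rw [← h]; exact c12
    · have e : r qn = (r ql * r qm) * r p := by
        rw [h, mul_assoc, H.cr.R.sq p hty, mul_one]
      rw [e, mul_assoc, c0, ← mul_assoc, c12, mul_assoc]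
  apply H.cr.co.cb.mem_Q_of_comm' hty hn hxp.1
  intro y hy
  obtain ⟨a, ha, b, hb, rfl⟩ := H.cr.co.cb.ZZ_decomp (CB.ty_nbr' hty hn) (Γ.symm hn) hqn nqn.symm hy
  have ca : x * a = a * x := ZB_comm ha hxp.1
  have cb : x * b = b * x := by
    rcases (H.cr.hr qn tn).2 b hb with rfl | rfl
    · simp
    · exact c3.symm
  rw [← mul_assoc, ca, mul_assoc, cb, mul_assoc]

theorem card_ZB {p : V} (hty : Γ.ty p = τ) : Nat.card (ZB G p) ≤ 2 := by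
  let f : Bool → ZB G p := fun b => if b then 1 else ⟨r p, H.r_ZB hty⟩
  have hf : Function.Surjective f := by
    rintro ⟨x, hx⟩
    rcases (H.cr.hr p hty).2 x hx with h | h
    · exact ⟨true, by simp only [f, if_true]; exact Subtype.ext h.symm⟩
    · exact ⟨false, by simp only [f]; exact Subtype.ext h.symm⟩
  have := Nat.card_le_card_of_surjective f hf
  simpa using this

theorem card_ZZ {l p q : V} (hl : Γ.ty l = !τ) (hp : Γ.A l p) (hq : Γ.A l q) (hpq : p ≠ q) :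
    Nat.card (Γ.ZZ l) ≤ 4 := by
  have tp := CB.ty_nbr hl hp
  have tq := CB.ty_nbr hl hq
  have fp : Finite (ZB G p) := finSub Γ p fun x hx => (mem_ZB.1 hx).1
  have fq : Finite (ZB G q) := finSub Γ q fun x hx => (mem_ZB.1 hx).1
  let f : ZB G p × ZB G q → Γ.ZZ l := fun y => ⟨y.1 * y.2, mul_mem (H.cr.co.cb.ZB_le_ZZ tp hp y.1.2)
    (H.cr.co.cb.ZB_le_ZZ tq hq y.2.2)⟩
  have hf : Function.Surjective f := by
    rintro ⟨x, hx⟩
    obtain ⟨a, ha, b, hb, e⟩ := H.cr.co.cb.ZZ_decomp hl hp hq hpq hx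
    exact ⟨(⟨a, ha⟩, ⟨b, hb⟩), Subtype.ext e.symm⟩
  have h1 := Nat.card_le_card_of_surjective f hf
  rw [Nat.card_prod] at h1
  have h2 := Nat.mul_le_mul (H.card_ZB tp) (H.card_ZB tq)
  omega

/-- the bound in the case of critical distance three -/
theorem card_le (hvw : Γ.A v w) : Nat.card (T v w : Subgroup G) ≤ 128 := by
  obtain ⟨p1, hty⟩ : ∃ p, Γ.ty p = τ := by
    by_cases h : Γ.ty v = τ
    · exact ⟨v, h⟩
    · refine ⟨w, ?_⟩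
      rw [Γ.ty_adj hvw]
      cases hv : Γ.ty v <;> cases τ <;> simp_all
  obtain ⟨p2, h12⟩ := ex_adj Γ p1
  obtain ⟨p3, p3', h3, h3', n31, n31', n33, -⟩ := exists_others (Γ.symm h12)
  obtain ⟨p4, h4, n4⟩ := exists_ne (Γ.symm h3)
  obtain ⟨p0, h0, n0⟩ := exists_ne h12
  have h1 := Γ.symm h12
  have t3 := ty2 h12 h3 hty
  have t2 := CB.ty_nbr' hty h12
  rw [card_T_eq hvw h12]
  have hle : Γ.D p1 ⊓ Γ.D p3 ≤ Γ.ZZ p2 := by
    intro x hx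
    exact H.step2 h1 h3 h3' n31.symm n31'.symm n33 hty hx.1 hx.2
      (H.step1 h1 h3 h3' n31.symm n31'.symm n33 hty hx.1 hx.2)
  let E1 : Subgroup G := Γ.Q p3 ⊓ Γ.D p1
  let E2 : Subgroup G := Γ.Q p4 ⊓ E1
  have fin1 : ∀ L : Subgroup G, L ≤ Γ.Q p1 → Finite L := fun L hL => finSub Γ p1 fun x hx => (hL hx).1
  have finZ : Finite (Γ.ZZ p2) := finSub Γ p2 fun x hx => (H.cr.co.cb.np.ZZ_le_Q hx).1
  have c2 : Nat.card E2 ≤ 4 := by
    have h5 : E2 ≤ Γ.ZZ p2 := by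
      intro x hx
      apply hle
      refine ⟨hx.2.2, ?_⟩
      exact H.D_of_two t3 h4 (Γ.symm h3) n4 hx.2.1 hx.1 (hx.2.2.2 p2 h12)
    exact (Nat.card_le_card_of_injective (Subgroup.inclusion h5) (Subgroup.inclusion_injective _)).trans
      (H.card_ZZ t2 h1 h3 n31.symm)
  have e1 : Half E1 (Γ.D p1) := (half_Q' (Γ.symm h3)).inf_left (fun n hn => Q_le_T h3 (hn.2 p2 h12))
  have e2 : Half E2 E1 := (half_Q' (Γ.symm h4)).inf_left (fun n hn => Q_le_T h4 hn.1)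
  have c1 := card_le_two_of_forall _ e2 (fin1 _ (fun x hx => hx.2.1)) c2
  have c0 := card_le_two_of_forall _ e1 (fin1 _ (fun x hx => hx.1)) c1
  let F1 : Subgroup G := Γ.Q p2 ⊓ Γ.Q p1
  let F2 : Subgroup G := Γ.Q p0 ⊓ F1
  have d2 : Nat.card F2 ≤ 2 * (2 * 4) := by
    have h5 : F2 ≤ Γ.D p1 := fun x hx => H.D_of_two hty h0 h12 n0 hx.2.2 hx.1 hx.2.1
    have : Finite (Γ.D p1) := fin1 _ (fun x hx => hx.1)
    exact (Nat.card_le_card_of_injective (Subgroup.inclusion h5) (Subgroup.inclusion_injective _)).trans c0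
  have g1 : Half F1 (Γ.Q p1) := (half_Q' h1).inf_left (Q_le_T h12)
  have g2 : Half F2 F1 := (half_Q' (Γ.symm h0)).inf_left (fun n hn => Q_le_T h0 hn.2)
  have d1 := card_le_two_of_forall _ g2 (fin1 _ (fun x hx => hx.2)) d2
  have d0 := card_le_two_of_forall _ g1 (fin1 _ le_rfl) d1
  have := card_T_le h12 d0
  omega

end C3

end Tri

end Cfsg.Agent.H209
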